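import Mathlib

/-!
A nonsingular bilinear map over an algebraically closed field has a large target.
-/

set_option autoImplicit false

namespace Groth.Agent.H02CA.GM

universe u

open MvPolynomial

variable {k : Type u} [Field k] [IsAlgClosed k] {p q m : ℕ}

/-- The products of the coordinates. -/
noncomputable def segre : MvPolynomial (Fin (p + 1) × Fin (q + 1)) k →ₐ[k] MvPolynomial (Fin (p + 1) ⊕ Fin (q + 1)) k :=
  aeval fun ij => X (Sum.inl ij.1) * X (Sum.inr ij.2)

/-- Whether a variable is killed at a stage. -/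
def killed (s : ℕ) : Fin (p + 1) ⊕ Fin (q + 1) → Prop :=
  Sum.elim (fun i => p + q < i.val + s) fun j => 1 ≤ j.val ∧ q < j.val + s

open Classical in
/-- Killing variables. -/
noncomputable def kill (s : ℕ) : MvPolynomial (Fin (p + 1) ⊕ Fin (q + 1)) k →ₐ[k] MvPolynomial (Fin (p + 1) ⊕ Fin (q + 1)) k :=
  aeval fun v => if killed s v then 0 else X v

theorem kill_kill (s : ℕ) :
    (kill (k := k) (p := p) (q := q) (s + 1)).comp (kill s) = kill (s + 1) := by
  classical
  refine MvPolynomial.algHom_ext fun v => ?_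
  by_cases h : killed s v
  · have h' : killed (s + 1) v := by
      rcases v with i | j <;> simp only [killed, Sum.elim_inl, Sum.elim_inr] at h ⊢ <;> omega
    simp [kill, h, h']
  · simp [kill, h]

/-- A bilinear map to a space of small dimension has a nontrivial zero. -/
theorem exists_bilinear_zero (hm : m ≤ p + q) (β : Fin m → Fin (p + 1) → Fin (q + 1) → k) :
    ∃ (x : Fin (p + 1) → k) (y : Fin (q + 1) → k), x ≠ 0 ∧ y ≠ 0 ∧ ∀ l, ∑ i, ∑ j, β l i j * (x i * y j) = 0 := by
  classical
  by_contra hcon
  push Not at hcon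
  let φ := segre (k := k) (p := p) (q := q)
  let I := RingHom.ker φ
  haveI : I.IsPrime := RingHom.ker_isPrime _
  let T := MvPolynomial (Fin (p + 1) × Fin (q + 1)) k ⧸ I
  let π : MvPolynomial (Fin (p + 1) × Fin (q + 1)) k →ₐ[k] T := Ideal.Quotient.mkₐ k I
  let P : ℕ → Ideal T := fun s => RingHom.ker ((kill s).toRingHom.comp (RingHom.kerLift φ.toRingHom))
  have hP : ∀ s, (P s).IsPrime := fun s => RingHom.ker_isPrime _
  have hmem : ∀ s a, π a ∈ P s ↔ kill s (φ a) = 0 := fun s a => by
    simp only [P, RingHom.mem_ker]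
    rfl
  have hlt : ∀ s ≤ p + q, P s < P (s + 1) := fun s hs => by
    refine lt_of_le_of_ne (fun t ht => ?_) fun heq => ?_
    · obtain ⟨a, rfl⟩ := Ideal.Quotient.mk_surjective t
      rw [show Ideal.Quotient.mk I a = π a from rfl, hmem] at ht ⊢
      rw [← kill_kill, AlgHom.comp_apply, ht, map_zero]
    · let z : Fin (p + 1) × Fin (q + 1) :=
        if h : s < q then (0, ⟨q - s, by omega⟩) else (⟨p + q - s, by omega⟩, 0)
      have hz : ∀ t, kill (k := k) t (φ (X z)) =
          (if killed (p := p) (q := q) t (Sum.inl z.1) then 0 else X (Sum.inl z.1)) *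
            (if killed (p := p) (q := q) t (Sum.inr z.2) then 0 else X (Sum.inr z.2)) := fun t => by
        simp [φ, segre, kill]
      have h1 : π (X z) ∈ P (s + 1) := by
        rw [hmem, hz]
        by_cases h : s < q
        · rw [if_pos (c := killed (p := p) (q := q) (s + 1) (Sum.inr z.2)), mul_zero]
          simp [z, h, killed]
          omega
        · rw [if_pos (c := killed (p := p) (q := q) (s + 1) (Sum.inl z.1)), zero_mul]
          simp [z, h, killed]
          omega
      rw [← heq, hmem, hz] at h1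
      have h2 : ¬ killed (p := p) (q := q) s (Sum.inl z.1) ∧ ¬ killed (p := p) (q := q) s (Sum.inr z.2) := by
        by_cases h : s < q <;> simp [z, h, killed] <;> omega
      rw [if_neg h2.1, if_neg h2.2] at h1
      exact mul_ne_zero (X_ne_zero _) (X_ne_zero _) h1
  have hheight : ∀ s ≤ p + q + 1, (s : ℕ∞) ≤ (P s).height := by
    intro s
    induction s with
    | zero => simp
    | succ s ih =>
      intro hs
      haveI := hP s
      haveI := hP (s + 1)
      push_cast
      exact le_trans (add_le_add_left (ih (by omega)) 1) (Ideal.height_add_one_le_of_lt_of_isPrime (hlt s (by omega)))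
  let m₀ := P (p + q + 1)
  haveI : m₀.IsPrime := hP _
  have hvar : ∀ ij, π (X ij) ∈ m₀ := fun ij => by
    rw [hmem]
    simp [φ, segre, kill, killed]
    intros
    omega
  let f : Fin m → T := fun l => π (∑ i, ∑ j, C (β l i j) * X (i, j))
  -- every maximal ideal containing the forms is the vertex
  have hmax : ∀ M : Ideal T, M.IsMaximal → Ideal.span (Set.range f) ≤ M → m₀ ≤ M := by
    intro M hM hfM
    letI := Ideal.Quotient.field M
    haveI : Module.Finite k (T ⧸ M) := finite_of_finite_type_of_isJacobsonRing k (T ⧸ M)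
    let e : (T ⧸ M) →ₐ[k] k := (AlgEquiv.ofBijective (Algebra.ofId k (T ⧸ M))
      IsAlgClosed.algebraMap_bijective_of_isIntegral).symm.toAlgHom
    let ev : MvPolynomial (Fin (p + 1) × Fin (q + 1)) k →ₐ[k] k := e.comp ((Ideal.Quotient.mkₐ k M).comp π)
    let z : Fin (p + 1) × Fin (q + 1) → k := fun ij => ev (X ij)
    have hrel : ∀ i j i' j', z (i, j) * z (i', j') = z (i, j') * z (i', j) := fun i j i' j' => by
      simp only [z, ← map_mul, ev, AlgHom.comp_apply]
      congr 2
      refine Ideal.Quotient.eq.2 ?_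
      simp only [I, RingHom.mem_ker, map_sub, map_mul, φ, segre, aeval_X]
      ring
    have hform : ∀ l, ∑ i, ∑ j, β l i j * z (i, j) = 0 := fun l => by
      have : ev (∑ i, ∑ j, C (β l i j) * X (i, j)) = 0 := by
        show e (Ideal.Quotient.mk M (f l)) = 0
        rw [Ideal.Quotient.eq_zero_iff_mem.2 (hfM (Ideal.subset_span ⟨l, rfl⟩)), map_zero]
      simpa [z, map_sum] using this
    have hz : ∀ ij, z ij = 0 := by
      rintro ⟨a, b⟩
      by_contra hab
      obtain ⟨l, hl⟩ := hcon (fun i => z (i, b)) (fun j => z (a, j) / z (a, b))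
        (fun h => hab (congrFun h a)) (fun h => (one_ne_zero : (1 : k) ≠ 0) (by simpa [hab] using congrFun h b))
      refine hl (Eq.trans ?_ (hform l))
      refine Finset.sum_congr rfl fun i _ => Finset.sum_congr rfl fun j _ => ?_
      rw [← mul_div_assoc, ← hrel i j a b, mul_div_cancel_right₀ _ hab]
    intro t ht
    obtain ⟨a, rfl⟩ := Ideal.Quotient.mk_surjective t
    rw [show Ideal.Quotient.mk I a = π a from rfl, hmem] at ht
    have hconst : ev = (aeval fun _ => (0 : k)) := MvPolynomial.algHom_ext fun ij => by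
      rw [aeval_X]
      exact hz ij
    have h0 : (kill (p + q + 1)).comp φ = (Algebra.ofId k _).comp (aeval fun _ => (0 : k)) :=
      MvPolynomial.algHom_ext fun ij => by
        simp [φ, segre, kill, killed]
        intros
        omega
    have h1 : ev a = 0 := by
      rw [hconst]
      have h2 := DFunLike.congr_fun h0 a
      rw [AlgHom.comp_apply, ht, AlgHom.comp_apply] at h2
      exact (map_eq_zero_iff _ (algebraMap k (MvPolynomial (Fin (p + 1) ⊕ Fin (q + 1)) k)).injective).1 h2.symm
    refine Ideal.Quotient.eq_zero_iff_mem.1 ?_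
    exact (AlgEquiv.ofBijective (Algebra.ofId k (T ⧸ M)) IsAlgClosed.algebraMap_bijective_of_isIntegral).symm.injective
      (h1.trans (map_zero _).symm)
  have hle : Ideal.span (Set.range f) ≤ m₀ := by
    rw [Ideal.span_le]
    rintro _ ⟨l, rfl⟩
    simp only [f, map_sum, map_mul, SetLike.mem_coe]
    exact Ideal.sum_mem _ fun i _ => Ideal.sum_mem _ fun j _ => Ideal.mul_mem_left _ _ (hvar (i, j))
  have hmin : m₀ ∈ (Ideal.span (Set.range f)).minimalPrimes := by
    refine ⟨⟨inferInstance, hle⟩, fun Q hQ _ => ?_⟩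
    haveI := hQ.1
    rw [← Ideal.IsRadical.radical (Ideal.IsPrime.isRadical hQ.1), Ideal.radical_eq_jacobson]
    exact le_sInf fun M hM => hmax M hM.2 (hQ.2.trans hM.1)
  have h1 := hheight (p + q + 1) le_rfl
  have h2 : m₀.height ≤ ((Finset.univ.image f).card : ℕ∞) := by
    refine Ideal.height_le_card_of_mem_minimalPrimes_span_finset ?_
    rwa [Finset.coe_image, Finset.coe_univ, Set.image_univ]
  have h3 : (Finset.univ.image f).card ≤ m := Finset.card_image_le.trans_eq (Finset.card_fin m)
  have h4 := h1.trans h2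
  rw [Nat.cast_le] at h4
  omega

end Groth.Agent.H02CA.GM
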