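import Groth.Agent.H11Proj.ProjSpace
import Groth.Agent.H11Proj.ClosedSub
import Groth.Agent.H22Alg.PnSections
import Groth.Agent.H23Proj.Homog
import Groth.Agent.H11Tilde.StalkGen
import Groth.Prelude.Def_Twist2

/-!
Coordinates on a standard chart of projective space and forms as sections of twisting sheaves.
-/

set_option autoImplicit false
set_option backward.isDefEq.respectTransparency false

universe u

open CategoryTheory CategoryTheory.Limits AlgebraicGeometry TopologicalSpace Opposite MvPolynomial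
open Groth.Agent Groth.Agent.H11Tilde
open CohB1 (polyGrading)

noncomputable section

namespace Groth.Agent.H02CA.GM

variable {k : Type u} [Field k] {n : ℕ}

/-- The standard chart. -/
abbrev Dp (i : Fin (n + 1)) : (Proj (polyGrading n k)).Opens := Proj.basicOpen (polyGrading n k) (X i)

theorem Xh (i : Fin (n + 1)) : (X i : MvPolynomial (Fin (n + 1)) k) ∈ polyGrading n k 1 := isHomogeneous_X k i

theorem Xh_pow (i : Fin (n + 1)) (d : ℕ) : (X i : MvPolynomial (Fin (n + 1)) k) ^ d ∈ polyGrading n k d :=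
  isHomogeneous_X_pow i d

section secHom

variable {A : Type*} [CommRing A] (i : Fin (n + 1)) (ψ : MvPolynomial (Fin (n + 1)) k →+* A) (h : ψ (X i) = 1)

/-- A map of functions on a chart from a map of forms sending the coordinate to `1`. -/
def secHom : Γ(Proj (polyGrading n k), Dp i) →+* A :=
  ((IsLocalization.Away.lift (S := Localization.Away (X i : MvPolynomial (Fin (n + 1)) k)) (X i)
      (g := ψ) (by rw [h]; exact isUnit_one)).comp
    (algebraMap (HomogeneousLocalization.Away (polyGrading n k) (X i))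
      (Localization.Away (X i : MvPolynomial (Fin (n + 1)) k)))).comp
    (Proj.basicOpenIsoAway (polyGrading n k) (X i) (Xh i) Nat.one_pos).inv.hom

theorem secHom_ratio {d : ℕ} {a : MvPolynomial (Fin (n + 1)) k} (ha : a ∈ polyGrading n k d) :
    secHom i ψ h (ratio (polyGrading n k) (Xh i) ha) = ψ a := by
  have e : (Proj.basicOpenIsoAway (polyGrading n k) (X i) (Xh i) Nat.one_pos).inv.hom
      (ratio (polyGrading n k) (Xh i) ha) =
      HomogeneousLocalization.Away.mk (polyGrading n k) (Xh i) d a (by simpa using ha) :=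
    Iso.hom_inv_id_apply (Proj.basicOpenIsoAway (polyGrading n k) (X i) (Xh i) Nat.one_pos) _
  rw [secHom, RingHom.comp_apply, e, RingHom.comp_apply]
  change IsLocalization.Away.lift _ _ (HomogeneousLocalization.Away.mk (polyGrading n k) (Xh i) d a _).val = _
  rw [HomogeneousLocalization.Away.val_mk, Localization.mk_eq_mk', IsLocalization.Away.lift,
    IsLocalization.lift_mk'_spec]
  simp [h]

end secHom

theorem dehom_X_zero : (H23Proj.dehom (X 0 : MvPolynomial (Fin (n + 1)) k) : MvPolynomial (Fin n) k) = 1 := by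
  simp [H23Proj.dehom]

/-- Dehomogenisation of the functions on the chart `x₀ ≠ 0`. -/
def deh : Γ(Proj (polyGrading n k), Dp 0) →+* MvPolynomial (Fin n) k :=
  secHom 0 (H23Proj.dehom (k := k) (n := n)).toRingHom dehom_X_zero

theorem deh_ratio {d : ℕ} {a : MvPolynomial (Fin (n + 1)) k} (ha : a ∈ polyGrading n k d) :
    deh (ratio (polyGrading n k) (Xh 0) ha) = H23Proj.dehom a := secHom_ratio _ _ _ ha

theorem deh_bijective : Function.Bijective (deh (k := k) (n := n)) := by
  refine ⟨(injective_iff_map_eq_zero _).2 fun x hx => ?_, fun p => ?_⟩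
  · obtain ⟨d, a, ha, rfl⟩ := H11Proj.exists_eq_ratio (polyGrading n k) (Xh 0) x
    rw [deh_ratio] at hx
    have : a = 0 := H23Proj.eq_zero_of_dehom_eq_zero ha hx
    subst this
    exact ratio_zero _ _
  · exact ⟨ratio (polyGrading n k) (Xh 0) (a := H23Proj.hom p.totalDegree p) (H23Proj.hom_isHomogeneous _ p),
      (deh_ratio _).trans (H23Proj.dehom_hom le_rfl)⟩

/-- The chart `x₀ ≠ 0` as affine space. -/
def dehEquiv : Γ(Proj (polyGrading n k), Dp 0) ≃+* MvPolynomial (Fin n) k :=
  RingEquiv.ofBijective deh deh_bijective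

theorem dehEquiv_ratio {d : ℕ} {a : MvPolynomial (Fin (n + 1)) k} (ha : a ∈ polyGrading n k d) :
    dehEquiv (ratio (polyGrading n k) (Xh 0) ha) = H23Proj.dehom a := deh_ratio ha

theorem nonempty_Dp : Nonempty (Dp (k := k) (n := n) 0) := by
  by_contra h
  rw [not_nonempty_iff] at h
  have h1 : (1 : Γ(Proj (polyGrading n k), Dp 0)) = 0 := fval_ext _ fun x => h.elim x
  exact one_ne_zero (((map_one (deh (k := k) (n := n))).symm.trans (congrArg deh h1)).trans (map_zero _))

/-- The twisting sheaf. -/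
abbrev O (n : ℕ) (k : Type u) [Field k] (d : ℕ) : (Proj (polyGrading n k)).Modules :=
  GrTwist.twist (polyGrading n k) (d : ℤ)

/-- The generator of `O(d)` on a chart. -/
def gd (d : ℕ) (i : Fin (n + 1)) : Γ(O n k d, Dp i) :=
  (O n k d).presheaf.map (homOfLE (le_top : Dp i ≤ ⊤)).op (globalSec (polyGrading n k) (Xh_pow i d))

theorem bijective_gd (d : ℕ) (i : Fin (n + 1)) {V : (Proj (polyGrading n k)).Opens} (hV : V ≤ Dp i) :
    Function.Bijective fun r : Γ(Proj (polyGrading n k), V) =>
      r • (O n k d).presheaf.map (homOfLE hV).op (gd d i) := by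
  have := bijective_smul_globalSec (polyGrading n k) (Xh_pow (k := k) i d) (V := V)
    (fun x hx => H11Tilde.pow_notMem _ (hV hx) d)
  simp only [gd, H10Coh.mres_mres]
  exact this

/-- A form near a chart. -/
theorem globalSec_res {d : ℕ} {a : MvPolynomial (Fin (n + 1)) k} (ha : a ∈ polyGrading n k d) (i : Fin (n + 1)) :
    (O n k d).presheaf.map (homOfLE (le_top : Dp i ≤ ⊤)).op (globalSec (polyGrading n k) ha) =
      ratio (polyGrading n k) (Xh i) ha • gd d i := by
  refine sval_ext (polyGrading n k) (polyGrading n k) fun x => ?_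
  erw [sval_smul, fval_ratio]
  change (Localization.mk a ⟨1, _⟩ : GrTwist.Loc (polyGrading n k) x.1) =
    Localization.mk a ⟨X i ^ d, _⟩ * Localization.mk (X i ^ d) ⟨1, _⟩
  rw [Localization.mk_mul]
  refine Localization.mk_eq_mk_iff.2 (Localization.r_iff_exists.2 ⟨1, ?_⟩)
  simp only [OneMemClass.coe_one, one_mul, Submonoid.coe_mul, mul_one]
  ring

/-- Global sections of `O(d)` are forms. -/
theorem exists_form {d : ℕ} (σ : Γ(O n k d, ⊤)) :
    ∃ (m : MvPolynomial (Fin (n + 1)) k) (hm : m ∈ polyGrading n k d), σ = globalSec (polyGrading n k) hm := by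
  have key : ∀ {m : MvPolynomial (Fin (n + 1)) k} (hm : m ∈ H10Coh.Pn.Gr n k d),
      H10Coh.Pn.psiG (d := (d : ℤ)) (globalSec (H10Coh.Pn.Gr n k) hm : Γ(H10Coh.Pn.Od n k (d : ℤ), ⊤)) =
        H10Coh.Pn.toL n k m := fun {m} hm => by
    refine H10Coh.Pn.psi_eq (H10Coh.Pn.degree_qa_pos _) (H10Coh.Pn.IsRep.res le_top ⟨d, m, 0,
      fun x _ => by simpa [H10Coh.Pn.mon] using one_notMem (H10Coh.Pn.Gr n k) x, hm, by simp,
      by simp [H10Coh.Pn.T_zero], fun x => ?_⟩)
    exact fracAt_congr (H10Coh.Pn.Gr n k) x.1 _ _ rfl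
      (show (1 : MvPolynomial (Fin (n + 1)) k) = H10Coh.Pn.mon 0 by simp [H10Coh.Pn.mon])
  obtain ⟨⟨m, hm⟩, h⟩ := (H10Coh.Pn.homToAllowed_bijective (n := n) (R := k) d).2
    ⟨H10Coh.Pn.psiG σ, H10Coh.Pn.psiG_mem σ (Or.inr (by simp))⟩
  refine ⟨m, hm, H10Coh.Pn.psiG_injective ?_⟩
  refine Eq.trans ?_ (key hm).symm
  exact (congrArg Subtype.val h).symm

end Groth.Agent.H02CA.GM
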