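import Mathlib

/-!
Coordinates on the family of linear subspaces `z = m + c y` of affine space.
-/

set_option autoImplicit false

namespace Groth.Agent.H02CA.GM

universe u

open MvPolynomial

variable (k : Type u) [Field k] (r q : ℕ)

/-- Functions on affine space with coordinates `(y, z)`. -/
abbrev B := MvPolynomial (Fin r ⊕ Fin q) k

/-- The parameters `(m, c)`. -/
abbrev Par := Fin q ⊕ (Fin q × Fin r)

/-- Functions on the incidence variety in coordinates `(y, m, c)`. -/
abbrev G := MvPolynomial (Fin r ⊕ Par r q) k

/-- The same functions in coordinates `(y, z)` and `c`. -/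
abbrev H := MvPolynomial (Fin q × Fin r) (B k r q)

variable {k r q}

/-- `z = m + c y`. -/
noncomputable def tau : B k r q →ₐ[k] G k r q :=
  aeval (Sum.elim (fun i => X (Sum.inl i))
    fun l => X (Sum.inr (Sum.inl l)) + ∑ i, X (Sum.inr (Sum.inr (l, i))) * X (Sum.inl i))

/-- Change of coordinates. -/
noncomputable def psi : G k r q →ₐ[k] H k r q :=
  aeval (Sum.elim (fun i => C (X (Sum.inl i)))
    (Sum.elim (fun l => C (X (Sum.inr l)) - ∑ i, X (l, i) * C (X (Sum.inl i))) fun li => X li))

/-- Change of coordinates, backwards. -/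
noncomputable def psiInv : H k r q →+* G k r q :=
  eval₂Hom tau.toRingHom fun li => X (Sum.inr (Sum.inr li))

theorem psi_tau (b : B k r q) : psi (tau b) = C b := by
  have : (psi.comp tau).toRingHom = (C : B k r q →+* H k r q) := by
    refine MvPolynomial.ringHom_ext (fun a => ?_) (fun v => ?_)
    · simp [psi, tau, MvPolynomial.algebraMap_apply]
    · rcases v with i | l
      · simp [psi, tau]
      · simp [psi, tau, map_sum]
  exact RingHom.congr_fun this b

theorem psiInv_psi (f : G k r q) : psiInv (psi f) = f := by
  have : psiInv.comp (psi (k := k) (r := r) (q := q)).toRingHom = RingHom.id _ := by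
    refine MvPolynomial.ringHom_ext (fun a => ?_) (fun v => ?_)
    · simp [psi, psiInv, tau, MvPolynomial.algebraMap_apply]
    · rcases v with i | l | li
      · simp [psi, psiInv, tau]
      · simp [psi, psiInv, tau, map_sum]
      · simp [psi, psiInv]
  exact RingHom.congr_fun this f

theorem psi_psiInv (f : H k r q) : psi (psiInv f) = f := by
  have : (psi (k := k) (r := r) (q := q)).toRingHom.comp psiInv = RingHom.id _ := by
    refine MvPolynomial.ringHom_ext (fun a => ?_) (fun v => ?_)
    · simpa [psiInv] using psi_tau a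
    · simp [psi, psiInv]
  exact RingHom.congr_fun this f

theorem tau_injective : Function.Injective (tau (k := k) (r := r) (q := q)) := fun a b h => by
  have := congrArg psi h
  rw [psi_tau, psi_tau] at this
  exact C_injective _ _ this

theorem psi_injective : Function.Injective (psi (k := k) (r := r) (q := q)) :=
  Function.LeftInverse.injective psiInv_psi

/-- Divisors of nonzero functions of `(y, z)` alone are functions of `(y, z)` alone. -/
theorem exists_of_dvd_tau {a : G k r q} {b : B k r q} (hb : b ≠ 0) (h : a ∣ tau b) :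
    ∃ a₀, a = tau a₀ ∧ a₀ ∣ b := by
  have h' : psi a ∣ C b := psi_tau b ▸ map_dvd psi h
  obtain ⟨a₀, ha₀, hCa⟩ := (dvd_C_iff_exists hb).1 h'
  refine ⟨a₀, psi_injective ?_, ha₀⟩
  rw [psi_tau]
  exact hCa

/-- The degree in `y`, as the degree in an auxiliary variable. -/
noncomputable def phi : G k r q →ₐ[k] Polynomial (G k r q) :=
  aeval (Sum.elim (fun i => Polynomial.C (X (Sum.inl i)) * Polynomial.X) fun p => Polynomial.C (X (Sum.inr p)))

/-- The degree in `y`. -/
noncomputable def degY (f : G k r q) : ℕ := (phi f).natDegree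

theorem phi_injective : Function.Injective (phi (k := k) (r := r) (q := q)) := by
  refine Function.LeftInverse.injective (g := Polynomial.eval 1) fun f => ?_
  have : ((Polynomial.evalRingHom 1).comp (phi (k := k) (r := r) (q := q)).toRingHom) = RingHom.id _ := by
    refine MvPolynomial.ringHom_ext (fun a => ?_) (fun v => ?_)
    · simp [phi, Polynomial.algebraMap_eq]
    · rcases v with i | p <;> simp [phi]
  exact RingHom.congr_fun this f

theorem degY_mul {f g : G k r q} (hf : f ≠ 0) (hg : g ≠ 0) : degY (f * g) = degY f + degY g := by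
  rw [degY, map_mul, Polynomial.natDegree_mul ((map_ne_zero_iff _ phi_injective).2 hf)
    ((map_ne_zero_iff _ phi_injective).2 hg)]
  rfl

theorem degY_mul_le (f g : G k r q) : degY (f * g) ≤ degY f + degY g := by
  rw [degY, map_mul]; exact Polynomial.natDegree_mul_le

theorem degY_add_le {f g : G k r q} {d : ℕ} (hf : degY f ≤ d) (hg : degY g ≤ d) : degY (f + g) ≤ d := by
  rw [degY, map_add]; exact (Polynomial.natDegree_add_le _ _).trans (max_le hf hg)

theorem degY_sub_le {f g : G k r q} {d : ℕ} (hf : degY f ≤ d) (hg : degY g ≤ d) : degY (f - g) ≤ d := by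
  rw [degY, map_sub]; exact (Polynomial.natDegree_sub_le _ _).trans (max_le hf hg)

theorem degY_y (i : Fin r) : degY (X (Sum.inl i) : G k r q) = 1 := by
  rw [degY, phi, aeval_X]
  exact Polynomial.natDegree_C_mul_X _ (X_ne_zero _)

section Exact

variable {A : Type*} [CommRing A] [Algebra k A]

omit r q in
/-- Substituting polynomials of degree at most one. -/
theorem natDegree_aeval_monomial {σ : Type*} (u : σ → Polynomial A) (hu : ∀ v, (u v).natDegree ≤ 1)
    (s : σ →₀ ℕ) (a : k) :
    (aeval u (monomial s a)).natDegree ≤ s.sum (fun _ n => n) ∧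
    (aeval u (monomial s a)).coeff (s.sum fun _ n => n) = aeval (fun v => (u v).coeff 1) (monomial s a) := by
  classical
  induction s using Finsupp.induction generalizing a with
  | zero => simp [aeval_C, Polynomial.algebraMap_apply]
  | single_add v n s hv hn ih =>
    rw [show monomial (Finsupp.single v n + s) a = X v ^ n * monomial s a by
      rw [X_pow_eq_monomial, monomial_mul, one_mul], map_mul, map_mul, map_pow, map_pow, aeval_X, aeval_X,
      Finsupp.sum_add_index' (fun _ => rfl) (fun _ _ _ => rfl), Finsupp.sum_single_index rfl]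
    obtain ⟨ih1, ih2⟩ := ih a
    have hp : (u v ^ n).natDegree ≤ n := (Polynomial.natDegree_pow_le).trans (by
      calc n * (u v).natDegree ≤ n * 1 := Nat.mul_le_mul_left n (hu v)
        _ = n := mul_one n)
    refine ⟨(Polynomial.natDegree_mul_le).trans (add_le_add hp ih1), ?_⟩
    rw [Polynomial.coeff_mul_add_eq_of_natDegree_le hp ih1, ih2]
    congr 1
    have := Polynomial.coeff_pow_of_natDegree_le (m := n) (hu v)
    rwa [mul_one] at this

omit r q in
/-- The top coefficient after substituting polynomials of degree at most one. -/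
theorem natDegree_aeval_le {σ : Type*} (u : σ → Polynomial A) (hu : ∀ v, (u v).natDegree ≤ 1)
    (f : MvPolynomial σ k) {d : ℕ} (hd : f.totalDegree ≤ d) :
    (aeval u f).natDegree ≤ d ∧
    (aeval u f).coeff d = aeval (fun v => (u v).coeff 1) (homogeneousComponent d f) := by
  classical
  have hle : ∀ s ∈ f.support, (s.sum fun _ n => n) ≤ d := fun s hs => (le_totalDegree hs).trans hd
  constructor
  · conv_lhs => rw [f.as_sum, map_sum]
    exact Polynomial.natDegree_sum_le_of_forall_le _ _ fun s hs =>
      ((natDegree_aeval_monomial u hu s _).1).trans (hle s hs)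
  · rw [homogeneousComponent_apply, map_sum, Finset.sum_filter]
    conv_lhs => rw [f.as_sum, map_sum, Polynomial.finset_sum_coeff]
    refine Finset.sum_congr rfl fun s hs => ?_
    obtain ⟨h1, h2⟩ := natDegree_aeval_monomial u hu s (coeff s f)
    by_cases hsd : (s.sum fun _ n => n) = d
    · rw [if_pos (by rw [Finsupp.degree]; exact hsd), ← hsd, h2]
    · rw [if_neg (by rw [Finsupp.degree]; exact hsd),
        Polynomial.coeff_eq_zero_of_natDegree_lt (lt_of_le_of_lt h1 (lt_of_le_of_ne (hle s hs) hsd))]

end Exact

/-- The leading form map `(y, z) ↦ (y, c y)`. -/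
noncomputable def lead : B k r q →ₐ[k] G k r q :=
  aeval (Sum.elim (fun i => X (Sum.inl i)) fun l => ∑ i, X (Sum.inr (Sum.inr (l, i))) * X (Sum.inl i))

theorem lead_injective (hr : 0 < r) : Function.Injective (lead (k := k) (r := r) (q := q)) := by
  classical
  let i₀ : Fin r := ⟨0, hr⟩
  let Fr := FractionRing (B k r q)
  let y₀ : Fr := algebraMap (B k r q) Fr (X (Sum.inl i₀))
  have hy₀ : y₀ ≠ 0 := (map_ne_zero_iff _ (IsFractionRing.injective _ _)).2 (X_ne_zero _)
  let ev : G k r q →ₐ[k] Fr := aeval (Sum.elim (fun i => algebraMap (B k r q) Fr (X (Sum.inl i)))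
    (Sum.elim (fun _ => 0) fun li => if li.2 = i₀ then algebraMap (B k r q) Fr (X (Sum.inr li.1)) / y₀ else 0))
  have : ev.comp lead = IsScalarTower.toAlgHom k (B k r q) Fr := by
    refine MvPolynomial.algHom_ext fun v => ?_
    rcases v with i | l
    · simp [ev, lead]
    · simp only [ev, lead, AlgHom.comp_apply, aeval_X, Sum.elim_inr, Sum.elim_inl, map_sum, map_mul, ite_mul, zero_mul,
        Finset.sum_ite_eq', Finset.mem_univ, if_true, IsScalarTower.coe_toAlgHom']
      exact div_mul_cancel₀ _ hy₀
  refine fun a b h => IsFractionRing.injective (B k r q) Fr ?_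
  have ha := DFunLike.congr_fun this a
  have hb := DFunLike.congr_fun this b
  simp only [AlgHom.comp_apply, IsScalarTower.coe_toAlgHom'] at ha hb
  rw [← ha, ← hb, h]

/-- The substitution preserves degrees. -/
theorem degY_tau (hr : 0 < r) (b : B k r q) : degY (tau b) = b.totalDegree := by
  classical
  let u : Fin r ⊕ Fin q → Polynomial (G k r q) := fun v => phi (tau (X v))
  have hu : ∀ v, (u v).natDegree ≤ 1 := by
    rintro (i | l)
    · exact (degY_y (k := k) (q := q) i).le |> fun h => by simpa [u, tau, degY] using h
    · simp only [u, tau, phi, aeval_X, Sum.elim_inr, map_add, map_sum, map_mul, Sum.elim_inl]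
      refine (Polynomial.natDegree_add_le _ _).trans (max_le (by simp) ?_)
      refine Polynomial.natDegree_sum_le_of_forall_le _ _ fun i _ => ?_
      rw [← mul_assoc, ← Polynomial.C_mul]
      exact (Polynomial.natDegree_C_mul_le _ _).trans Polynomial.natDegree_X_le
  have hc : (fun v => (u v).coeff 1) = fun v => lead (X v) := by
    funext v
    rcases v with i | l
    · simp [u, tau, phi, lead]
    · simp only [u, tau, phi, lead, aeval_X, Sum.elim_inr, Sum.elim_inl, map_add, map_sum, map_mul,
        Polynomial.coeff_add, Polynomial.finset_sum_coeff, Polynomial.coeff_C_succ, zero_add]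
      refine Finset.sum_congr rfl fun i _ => ?_
      rw [← mul_assoc, ← Polynomial.C_mul, Polynomial.coeff_C_mul, Polynomial.coeff_X_one, mul_one]
  have he : phi.comp tau = aeval u := MvPolynomial.algHom_ext fun v => by simp [u]
  obtain ⟨h1, h2⟩ := natDegree_aeval_le u hu b le_rfl
  have heb : phi (tau b) = aeval u b := DFunLike.congr_fun he b
  rw [degY, heb]
  refine le_antisymm h1 ?_
  rcases eq_or_ne b 0 with rfl | hb
  · simp
  refine Polynomial.le_natDegree_of_ne_zero ?_
  have hl : (aeval fun v => lead (k := k) (r := r) (q := q) (X v)) = lead := (aeval_unique _).symm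
  rw [h2, hc, hl]
  refine (map_ne_zero_iff _ (lead_injective hr)).2 fun h0 => ?_
  obtain ⟨s, hs, hsd⟩ := Finset.exists_mem_eq_sup _ (support_nonempty.2 hb) (fun s => s.sum fun _ n => n)
  have := congrArg (coeff s) h0
  rw [coeff_homogeneousComponent, if_pos (by rw [Finsupp.degree]; exact hsd.symm), coeff_zero] at this
  exact (mem_support_iff.1 hs) this

end Groth.Agent.H02CA.GM
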