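import Groth.Agent.H02CA.GM.Deriv

/-!
A family of functionals on a rank two module along linear subspaces, of small degree, comes from a single functional.
-/

set_option autoImplicit false

namespace Groth.Agent.H02CA.GM

universe u v

open MvPolynomial

variable {k : Type u} [Field k] {r q : ℕ} {N : Type v} [Fintype N]

/-- `η` kills the relations. -/
def Orth {R : Type*} [CommRing R] (Rel : Set (N → R)) (η : N → R) : Prop := ∀ v ∈ Rel, ∑ e, v e * η e = 0

/-- The coefficients of the Plücker relation. -/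
noncomputable def plucker {R : Type*} [CommRing R] (W : N → N → R) (a b e : N) : N → R := by
  classical
  exact fun x => (if x = e then W a b else 0) + (if x = a then W b e else 0) + if x = b then W e a else 0

theorem sum_plucker {R : Type*} [CommRing R] (W : N → N → R) (a b e : N) (η : N → R) :
    ∑ x, plucker W a b e x * η x = W a b * η e + W b e * η a + W e a * η b := by
  classical
  simp [plucker, add_mul, Finset.sum_add_distrib]

variable (W : N → N → B k r q) (Rel : Set (N → B k r q))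

/-- The wedge of a functional with its derivative is divisible by the determinant. -/
theorem dvd_wedge (halt : ∀ a b, W b a = -W a b) (hplu : ∀ a b e, plucker W a b e ∈ Rel)
    (hfun : ∀ j, Orth Rel fun e => W e j) (hunit : ∃ u : N → N → B k r q, ∑ a, ∑ b, u a b * W a b = 1)
    {φ ψ : N → G k r q} (hφ : ∀ v ∈ Rel, ∑ e, tau (v e) * φ e = 0) (hψ : ∀ v ∈ Rel, ∑ e, tau (v e) * ψ e = 0)
    (a b : N) (hab : W a b ≠ 0) : tau (W a b) ∣ φ a * ψ b - φ b * ψ a := by
  obtain ⟨u, hu⟩ := hunit
  have hP : ∀ {χ : N → G k r q}, (∀ v ∈ Rel, ∑ e, tau (v e) * χ e = 0) → ∀ e,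
      tau (W a b) * χ e + tau (W b e) * χ a + tau (W e a) * χ b = 0 := fun {χ} hχ e => by
    have h := hχ _ (hplu a b e)
    classical
    simpa [plucker, map_add, apply_ite tau, map_zero, add_mul, Finset.sum_add_distrib] using h
  have hW : ∀ i j, W a b * W i j + W b i * W a j + W i a * W b j = 0 := fun i j => by
    have h := hfun j _ (hplu a b i)
    rwa [sum_plucker] at h
  have key : ∀ i j, tau (W a b) * (φ i * ψ j - φ j * ψ i) = tau (W i j) * (φ a * ψ b - φ b * ψ a) := by
    intro i j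
    refine mul_left_cancel₀ ((map_ne_zero_iff _ tau_injective).2 hab) ?_
    have h1 := hP hφ i
    have h2 := hP hψ j
    have h3 := hP hφ j
    have h4 := hP hψ i
    have h5 : tau (W a b) * tau (W i j) + tau (W b i) * tau (W a j) + tau (W i a) * tau (W b j) = 0 := by
      rw [← map_mul, ← map_mul, ← map_mul, ← map_add, ← map_add, hW, map_zero]
    have ej : tau (W a j) = -tau (W j a) := by rw [halt j a, map_neg]
    linear_combination tau (W a b) * ψ j * h1 - tau (W a b) * ψ i * h3
      - (tau (W b i) * φ a + tau (W i a) * φ b) * h2 + (tau (W b j) * φ a + tau (W j a) * φ b) * h4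
      - (φ a * ψ b - φ b * ψ a) * h5 + (φ a * ψ b - φ b * ψ a) * tau (W b i) * ej
  refine ⟨∑ i, ∑ j, tau (u i j) * (φ i * ψ j - φ j * ψ i), ?_⟩
  calc φ a * ψ b - φ b * ψ a = tau (∑ i, ∑ j, u i j * W i j) * (φ a * ψ b - φ b * ψ a) := by
        rw [hu, map_one, one_mul]
    _ = ∑ i, ∑ j, tau (u i j) * (tau (W i j) * (φ a * ψ b - φ b * ψ a)) := by
        simp only [map_sum, map_mul, Finset.sum_mul, mul_assoc]
    _ = _ := by
        simp only [← key, Finset.mul_sum]
        exact Finset.sum_congr rfl fun i _ => Finset.sum_congr rfl fun j _ => by ring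

/-- The wedge with the derivative vanishes. -/
theorem wedge_D_eq_zero (hr : 0 < r) (halt : ∀ a b, W b a = -W a b) (hplu : ∀ a b e, plucker W a b e ∈ Rel)
    (hfun : ∀ j, Orth Rel fun e => W e j) (hunit : ∃ u : N → N → B k r q, ∑ a, ∑ b, u a b * W a b = 1)
    {φ : N → G k r q} (hφ : ∀ v ∈ Rel, ∑ e, tau (v e) * φ e = 0) {d : ℕ} (hφd : ∀ e, degY (φ e) ≤ d)
    {a b : N} (hab : W a b ≠ 0) (hd : 2 * d + 1 < (W a b).totalDegree ∨ (2 * d + 1 = (W a b).totalDegree ∧ 1 < r))
    (l : Fin q) (i : Fin r) : φ a * D l i (φ b) - φ b * D l i (φ a) = 0 := by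
  have hDφ : ∀ (l : Fin q) (i : Fin r), ∀ v ∈ Rel, ∑ e, tau (v e) * D l i (φ e) = 0 := fun l i v hv => by
    have := congrArg (D l i) (hφ v hv)
    simpa [map_sum, Derivation.leibniz, D_tau, smul_eq_mul] using this
  have hW0 : tau (W a b) ≠ 0 := (map_ne_zero_iff _ tau_injective).2 hab
  have hdeg : ∀ (l : Fin q) (i : Fin r), degY (φ a * D l i (φ b) - φ b * D l i (φ a)) ≤ 2 * d + 1 := fun l i => by
    refine degY_sub_le ((degY_mul_le _ _).trans ?_) ((degY_mul_le _ _).trans ?_)
    · have := degY_D_le l i (φ b); have := hφd a; have := hφd b; omega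
    · have := degY_D_le l i (φ a); have := hφd a; have := hφd b; omega
  choose δ hδ using fun l i => dvd_wedge W Rel halt hplu hfun hunit hφ (hDφ l i) a b hab
  rcases hd with hd | ⟨hd, hr2⟩
  · by_contra hne
    have h1 := hdeg l i
    rw [hδ] at h1 hne
    rw [degY_mul hW0 (right_ne_zero_of_mul hne), degY_tau hr] at h1
    omega
  · haveI : Nontrivial (Fin r) := Fin.nontrivial_iff_two_le.2 hr2
    obtain ⟨j, hji⟩ := exists_ne i
    have hδ0 : ∀ i, δ l i ≠ 0 → degY (δ l i) = 0 := fun i hne => by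
      have h1 := hdeg l i
      rw [hδ, degY_mul hW0 hne, degY_tau hr] at h1
      omega
    have hcomb : X (Sum.inl j) * δ l i = X (Sum.inl i) * δ l j := by
      by_contra hne
      rw [← sub_eq_zero] at hne
      have h2 : tau (W a b) * (X (Sum.inl j) * δ l i - X (Sum.inl i) * δ l j) =
          φ a * (X (Sum.inl j) * D l i (φ b) - X (Sum.inl i) * D l j (φ b)) -
            φ b * (X (Sum.inl j) * D l i (φ a) - X (Sum.inl i) * D l j (φ a)) := by
        linear_combination (-(X (Sum.inl j) : G k r q)) * hδ l i + (X (Sum.inl i) : G k r q) * hδ l j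
      have h3 : degY (φ a * (X (Sum.inl j) * D l i (φ b) - X (Sum.inl i) * D l j (φ b)) -
            φ b * (X (Sum.inl j) * D l i (φ a) - X (Sum.inl i) * D l j (φ a))) ≤ 2 * d + 1 := by
        refine degY_sub_le ((degY_mul_le _ _).trans ?_) ((degY_mul_le _ _).trans ?_)
        · have := degY_D₂_le l i j (φ b); have := hφd a; have := hφd b; omega
        · have := degY_D₂_le l i j (φ a); have := hφd a; have := hφd b; omega
      rw [← h2, degY_mul hW0 hne, degY_tau hr] at h3
      have h4 : degY (X (Sum.inl j) * δ l i - X (Sum.inl i) * δ l j) = 0 := by omega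
      have h5 : ∀ (i' j' : Fin r), ∃ g, phi (X (Sum.inl j') * δ l i') = Polynomial.C g * Polynomial.X := fun i' j' => by
        rcases eq_or_ne (δ l i') 0 with h | h
        · exact ⟨0, by simp [h]⟩
        · refine ⟨X (Sum.inl j') * (phi (δ l i')).coeff 0, ?_⟩
          rw [map_mul]
          conv_lhs => rw [Polynomial.eq_C_of_natDegree_eq_zero (hδ0 i' h)]
          simp [phi]
          ring
      obtain ⟨g₁, hg₁⟩ := h5 i j
      obtain ⟨g₂, hg₂⟩ := h5 j i
      rw [degY, map_sub, hg₁, hg₂, ← sub_mul, ← Polynomial.C_sub] at h4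
      rcases eq_or_ne (g₁ - g₂) 0 with h | h
      · refine hne (phi_injective ?_)
        rw [map_sub, hg₁, hg₂, ← sub_mul, ← Polynomial.C_sub, h, map_zero, zero_mul, map_zero]
      · rw [Polynomial.natDegree_C_mul_X _ h] at h4
        exact one_ne_zero h4
    have hi : δ l i = 0 := by
      by_contra hne
      have hp : Prime (X (Sum.inl i) : G k r q) := X_prime
      rcases hp.dvd_or_dvd ⟨δ l j, hcomb⟩ with h | ⟨g, hg⟩
      · rw [X_dvd_X] at h
        exact hji (Sum.inl_injective h).symm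
      · have := hδ0 i hne
        rw [hg, degY_mul hp.ne_zero (right_ne_zero_of_mul (hg ▸ hne)), degY_y] at this
        omega
    rw [hδ, hi, mul_zero]

/-- The functional over the family is a multiple of a constant one of no larger degree. -/
theorem exists_constant_functional [CharZero k] (hr : 0 < r) (halt : ∀ a b, W b a = -W a b)
    (hplu : ∀ a b e, plucker W a b e ∈ Rel) (hfun : ∀ j, Orth Rel fun e => W e j)
    (hunit : ∃ u : N → N → B k r q, ∑ a, ∑ b, u a b * W a b = 1)
    {φ : N → G k r q} (hφ : ∀ v ∈ Rel, ∑ e, tau (v e) * φ e = 0) (hφ0 : ∃ e, φ e ≠ 0) {d : ℕ}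
    (hφd : ∀ e, degY (φ e) ≤ d) {a b : N} (hab : W a b ≠ 0)
    (hd : 2 * d + 1 < (W a b).totalDegree ∨ (2 * d + 1 = (W a b).totalDegree ∧ 1 < r)) :
    ∃ η : N → B k r q, (∃ e, η e ≠ 0) ∧ Orth Rel η ∧ ∀ e, (η e).totalDegree ≤ d := by
  classical
  letI : NormalizedGCDMonoid (B k r q) := Classical.arbitrary _
  letI : NormalizedGCDMonoid (G k r q) := Classical.arbitrary _
  have hW0 : tau (W a b) ≠ 0 := (map_ne_zero_iff _ tau_injective).2 hab
  have hP : ∀ e, tau (W a b) * φ e + tau (W b e) * φ a + tau (W e a) * φ b = 0 := fun e => by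
    have h := hφ _ (hplu a b e)
    simpa [plucker, map_add, apply_ite tau, map_zero, add_mul, Finset.sum_add_distrib] using h
  -- the ratio is constant
  obtain ⟨g, p₀, q₀, hg, hpq, hga, hgb⟩ : ∃ (g : G k r q) (p₀ q₀ : B k r q), g ≠ 0 ∧ ¬(p₀ = 0 ∧ q₀ = 0) ∧
      φ a = g * tau p₀ ∧ φ b = g * tau q₀ := by
    by_cases hb0 : φ b = 0
    · refine ⟨φ a, 1, 0, fun ha0 => ?_, fun h => one_ne_zero h.1, by rw [map_one, mul_one], by rw [hb0, map_zero, mul_zero]⟩
      obtain ⟨e, he⟩ := hφ0
      have := hP e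
      rw [ha0, hb0, mul_zero, mul_zero, add_zero, add_zero] at this
      exact he ((mul_eq_zero.1 this).resolve_left hW0)
    obtain ⟨a', b', g, hrel, ha', hb'⟩ := UniqueFactorizationMonoid.exists_reduced_factors' (φ a) (φ b) hb0
    have hg : g ≠ 0 := fun h => hb0 (by rw [← hb', h, zero_mul])
    have hder : ∀ l i, a' * D l i b' = b' * D l i a' := fun l i => by
      have h := wedge_D_eq_zero W Rel hr halt hplu hfun hunit hφ hφd hab hd l i
      rw [← ha', ← hb', Derivation.leibniz, Derivation.leibniz, smul_eq_mul, smul_eq_mul, smul_eq_mul, smul_eq_mul] at h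
      refine mul_left_cancel₀ (pow_ne_zero 2 hg) ?_
      linear_combination h
    obtain ⟨p₀, hp₀⟩ := exists_tau_of_dvd_D (f := a') fun l i => hrel.dvd_of_dvd_mul_left ⟨D l i b', (hder l i).symm⟩
    obtain ⟨q₀, hq₀⟩ := exists_tau_of_dvd_D (f := b') fun l i => hrel.symm.dvd_of_dvd_mul_left ⟨D l i a', hder l i⟩
    refine ⟨g, p₀, q₀, hg, fun h => hb0 ?_, by rw [← ha', hp₀], by rw [← hb', hq₀]⟩
    rw [← hb', hq₀, h.2, map_zero, mul_zero]
  let η₁ : N → B k r q := fun e => p₀ * W e b + q₀ * W a e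
  have hη₁ : ∀ e, tau (W a b) * φ e = g * tau (η₁ e) := fun e => by
    have h := hP e
    rw [hga, hgb] at h
    simp only [η₁, map_add, map_mul]
    rw [halt b e, halt e a, map_neg, map_neg]
    linear_combination h
  have hη₁0 : ∃ e, η₁ e ≠ 0 := by
    by_contra h
    push Not at h
    obtain ⟨e, he⟩ := hφ0
    have := hη₁ e
    rw [h e, map_zero, mul_zero] at this
    exact he ((mul_eq_zero.1 this).resolve_left hW0)
  have hη₁orth : Orth Rel η₁ := fun v hv => by
    have h1 := hfun b v hv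
    have h2 := hfun a v hv
    simp only [η₁, mul_add, Finset.sum_add_distrib]
    rw [show ∑ e, v e * (p₀ * W e b) = p₀ * ∑ e, v e * W e b by
        rw [Finset.mul_sum]; exact Finset.sum_congr rfl fun e _ => by ring,
      show ∑ e, v e * (q₀ * W a e) = -q₀ * ∑ e, v e * W e a by
        rw [Finset.mul_sum]; exact Finset.sum_congr rfl fun e _ => by rw [halt e a]; ring,
      h1, h2, mul_zero, mul_zero, add_zero]
  obtain ⟨e₁, he₁⟩ := hη₁0
  obtain ⟨η₀, hη₀, hgcd⟩ := Finset.extract_gcd η₁ (s := (Finset.univ : Finset N)) ⟨e₁, Finset.mem_univ _⟩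
  set G₀ := (Finset.univ : Finset N).gcd η₁
  have hG₀ : G₀ ≠ 0 := fun h => he₁ (Finset.gcd_eq_zero_iff.1 h e₁ (Finset.mem_univ _))
  have hη₀ne : η₀ e₁ ≠ 0 := fun h => he₁ (by rw [hη₀ e₁ (Finset.mem_univ _), h, mul_zero])
  -- the determinant divides the scalar
  have hgcd' : IsUnit ((Finset.univ : Finset N).gcd fun e => tau (η₀ e)) := by
    obtain ⟨d₀, hd₀, -⟩ := exists_of_dvd_tau hη₀ne
      (Finset.gcd_dvd (f := fun e => tau (η₀ e)) (Finset.mem_univ e₁))
    have hall : ∀ e, d₀ ∣ η₀ e := fun e => by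
      rcases eq_or_ne (η₀ e) 0 with h | h
      · rw [h]; exact dvd_zero _
      · obtain ⟨d₁, hd₁, hd₁'⟩ := exists_of_dvd_tau h (Finset.gcd_dvd (f := fun e => tau (η₀ e)) (Finset.mem_univ e))
        rw [tau_injective (hd₀.symm.trans hd₁)]
        exact hd₁'
    rw [hd₀]
    exact (isUnit_of_dvd_one (hgcd ▸ Finset.dvd_gcd fun e _ => hall e)).map tau
  obtain ⟨h, hh⟩ : tau (W a b) ∣ g * tau G₀ := by
    have h1 : tau (W a b) ∣ (Finset.univ : Finset N).gcd fun e => (g * tau G₀) * tau (η₀ e) :=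
      Finset.dvd_gcd fun e _ => ⟨φ e, by rw [hη₁, hη₀ e (Finset.mem_univ _), map_mul, mul_assoc]⟩
    exact hgcd'.dvd_mul_right.1 (h1.trans (Finset.gcd_mul_left' _ _ _).dvd)
  have hφe : ∀ e, φ e = h * tau (η₀ e) := fun e => mul_left_cancel₀ hW0 (by
    rw [hη₁, hη₀ e (Finset.mem_univ _), map_mul, ← mul_assoc, hh, mul_assoc])
  have hh0 : h ≠ 0 := fun h0 => by
    rw [h0, mul_zero, mul_eq_zero] at hh
    rcases hh with h1 | h1
    · exact hg h1
    · exact hG₀ ((map_eq_zero_iff _ tau_injective).1 h1)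
  refine ⟨η₀, ⟨e₁, hη₀ne⟩, fun v hv => ?_, fun e => ?_⟩
  · refine (mul_eq_zero.1 ?_).resolve_left hG₀
    rw [Finset.mul_sum]
    refine Eq.trans (Finset.sum_congr rfl fun e _ => ?_) (hη₁orth v hv)
    rw [hη₀ e (Finset.mem_univ _)]; ring
  · rcases eq_or_ne (η₀ e) 0 with h0 | h0
    · rw [h0, totalDegree_zero]; exact Nat.zero_le _
    · have := hφd e
      rw [hφe, degY_mul hh0 ((map_ne_zero_iff _ tau_injective).2 h0), degY_tau hr] at this
      omega

end Groth.Agent.H02CA.GM
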