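import Groth.Agent.H02CA.GM.Coord

/-!
Derivations along the family of linear subspaces which fix the point.
-/

set_option autoImplicit false

namespace Groth.Agent.H02CA.GM

universe u

open MvPolynomial

variable {k : Type u} [Field k] {r q : ℕ}

/-- The variable `c`. -/
abbrev vc (l : Fin q) (i : Fin r) : Fin r ⊕ Par r q := Sum.inr (Sum.inr (l, i))

/-- The variable `m`. -/
abbrev vm (l : Fin q) : Fin r ⊕ Par r q := Sum.inr (Sum.inl l)

/-- Moving the subspace through a fixed point. -/
noncomputable def D (l : Fin q) (i : Fin r) : Derivation k (G k r q) (G k r q) :=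
  pderiv (vc l i) - (X (Sum.inl i) : G k r q) • pderiv (vm l)

theorem D_apply (l : Fin q) (i : Fin r) (f : G k r q) :
    D l i f = pderiv (vc l i) f - X (Sum.inl i) * pderiv (vm l) f := rfl

theorem D_tau (l : Fin q) (i : Fin r) (b : B k r q) : D l i (tau b) = 0 := by
  classical
  induction b using MvPolynomial.induction_on with
  | C a => rw [← MvPolynomial.algebraMap_eq, AlgHom.commutes, Derivation.map_algebraMap]
  | add a b ha hb => rw [map_add, map_add, ha, hb, add_zero]
  | mul_X a v ha =>
    rw [map_mul, Derivation.leibniz, ha, smul_zero, add_zero]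
    suffices h : D l i (tau (X v : B k r q)) = 0 by rw [h, smul_zero]
    rcases v with i' | l'
    · simp [tau, D_apply, pderiv_X, Pi.single_apply]
    · simp only [tau, aeval_X, Sum.elim_inr, D_apply, map_add, map_sum, Derivation.leibniz, smul_eq_mul]
      by_cases hll : l' = l
      · subst hll
        simp [pderiv_X, Pi.single_apply, Finset.mul_sum]
      · simp [pderiv_X, Pi.single_apply, hll, Ne.symm hll, Finset.mul_sum]

/-- In the coordinates `(y, z, c)` the derivation is a partial derivative. -/
theorem psi_D (l : Fin q) (i : Fin r) (f : G k r q) : psi (D l i f) = pderiv (l, i) (psi f) := by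
  classical
  induction f using MvPolynomial.induction_on with
  | C a =>
    rw [← MvPolynomial.algebraMap_eq, Derivation.map_algebraMap, map_zero, AlgHom.commutes,
      IsScalarTower.algebraMap_apply k (B k r q) (H k r q), Derivation.map_algebraMap]
  | add a b ha hb => rw [map_add, map_add, ha, hb, map_add, map_add]
  | mul_X a v ha =>
    rw [Derivation.leibniz, map_add, smul_eq_mul, smul_eq_mul, map_mul, map_mul, ha, map_mul, Derivation.leibniz,
      smul_eq_mul, smul_eq_mul]
    congr 2
    rcases v with i' | l' | ⟨l', i'⟩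
    · simp [psi, D_apply, pderiv_X, Pi.single_apply]
    · by_cases hll : l' = l
      · subst hll
        simp [psi, D_apply, pderiv_X, Pi.single_apply, map_sum, Derivation.leibniz]
      · simp [psi, D_apply, pderiv_X, Pi.single_apply, map_sum, Derivation.leibniz, hll, Ne.symm hll]
    · by_cases hll : (l', i') = (l, i)
      · simp only [Prod.mk.injEq] at hll
        obtain ⟨rfl, rfl⟩ := hll
        simp [psi, D_apply, pderiv_X, Pi.single_apply]
      · have : ¬ (l, i) = (l', i') := fun h => hll h.symm
        simp only [Prod.mk.injEq] at hll this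
        simp [psi, D_apply, pderiv_X, Pi.single_apply, hll, this]

theorem coeff_phi_pderiv (p : Par r q) (f : G k r q) (n : ℕ) :
    (phi (pderiv (Sum.inr p) f)).coeff n = pderiv (Sum.inr p) ((phi f).coeff n) := by
  classical
  induction f using MvPolynomial.induction_on generalizing n with
  | C a =>
    rw [pderiv_C, map_zero, Polynomial.coeff_zero, ← MvPolynomial.algebraMap_eq, AlgHom.commutes,
      Polynomial.algebraMap_apply, Polynomial.coeff_C]
    split_ifs
    · rw [Derivation.map_algebraMap]
    · rw [map_zero]
  | add a b ha hb => rw [map_add, map_add, Polynomial.coeff_add, ha, hb, map_add, Polynomial.coeff_add, map_add]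
  | mul_X a v ha =>
    rw [Derivation.leibniz, smul_eq_mul, smul_eq_mul, map_add, map_mul, map_mul, map_mul, Polynomial.coeff_add]
    rcases v with i | p'
    · have h0 : pderiv (Sum.inr p) (X (Sum.inl i) : G k r q) = 0 := pderiv_X_of_ne (by simp)
      rw [h0, map_zero, mul_zero, Polynomial.coeff_zero, zero_add,
        show phi (X (Sum.inl i) : G k r q) = Polynomial.C (X (Sum.inl i)) * Polynomial.X by simp [phi],
        mul_assoc, Polynomial.coeff_C_mul, mul_comm _ (Polynomial.C _ * Polynomial.X), mul_assoc,
        Polynomial.coeff_C_mul, mul_comm Polynomial.X]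
      cases n with
      | zero => simp
      | succ n =>
        rw [Polynomial.coeff_mul_X, mul_comm Polynomial.X, Polynomial.coeff_mul_X, ha, Derivation.leibniz, h0, smul_zero,
          add_zero, smul_eq_mul]
    · rw [show phi (X (Sum.inr p') : G k r q) = Polynomial.C (X (Sum.inr p')) by simp [phi],
        Polynomial.coeff_C_mul, ha, Polynomial.coeff_mul_C, Derivation.leibniz, smul_eq_mul, smul_eq_mul]
      by_cases hp : p' = p
      · subst hp
        simp only [pderiv_X_self, map_one, mul_one]
      · have h0 : pderiv (Sum.inr p) (X (Sum.inr p') : G k r q) = 0 := pderiv_X_of_ne (by simp [Ne.symm hp, hp])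
        rw [h0, map_zero, mul_zero, mul_zero, Polynomial.coeff_zero]

theorem degY_pderiv_le (p : Par r q) (f : G k r q) : degY (pderiv (Sum.inr p) f) ≤ degY f := by
  refine Polynomial.natDegree_le_iff_coeff_eq_zero.2 fun n hn => ?_
  rw [coeff_phi_pderiv, Polynomial.coeff_eq_zero_of_natDegree_lt (lt_of_le_of_lt le_rfl hn), map_zero]

theorem degY_D_le (l : Fin q) (i : Fin r) (f : G k r q) : degY (D l i f) ≤ degY f + 1 := by
  rw [D_apply]
  refine degY_sub_le ((degY_pderiv_le _ f).trans (Nat.le_succ _)) ((degY_mul_le _ _).trans ?_)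
  rw [degY_y, add_comm]
  exact Nat.add_le_add_right (degY_pderiv_le _ f) 1

theorem degY_D₂_le (l : Fin q) (i j : Fin r) (f : G k r q) :
    degY (X (Sum.inl j) * D l i f - X (Sum.inl i) * D l j f) ≤ degY f + 1 := by
  rw [show X (Sum.inl j) * D l i f - X (Sum.inl i) * D l j f =
    X (Sum.inl j) * pderiv (vc l i) f - X (Sum.inl i) * pderiv (vc l j) f by rw [D_apply, D_apply]; ring]
  refine degY_sub_le ((degY_mul_le _ _).trans ?_) ((degY_mul_le _ _).trans ?_) <;>
  · rw [degY_y, add_comm]
    exact Nat.add_le_add_right (degY_pderiv_le _ f) 1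

/-- Functions killed by all derivations come from `(y, z)`. -/
theorem exists_tau_of_D_eq_zero [CharZero k] {f : G k r q} (hf : ∀ l i, D l i f = 0) : ∃ b, f = tau b := by
  classical
  refine ⟨coeff 0 (psi f), psi_injective ?_⟩
  rw [psi_tau]
  refine MvPolynomial.ext _ _ fun m => ?_
  rw [coeff_C]
  split_ifs with h
  · rw [h]
  · obtain ⟨li, hli⟩ : ∃ li, m li ≠ 0 := by
      by_contra h'
      push Not at h'
      exact h (Finsupp.ext fun li => (h' li).symm)
    have h1 : pderiv li (psi f) = 0 := by rw [← psi_D li.1 li.2, hf, map_zero]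
    have h2 := congrArg (coeff (m - Finsupp.single li 1)) h1
    rw [coeff_pderiv, coeff_zero] at h2
    have hm : m - Finsupp.single li 1 + Finsupp.single li 1 = m := by
      ext a
      by_cases ha : li = a
      · subst ha; simp; omega
      · simp [Finsupp.single_apply, ha]
    rw [hm] at h2
    rcases mul_eq_zero.1 h2 with h3 | h3
    · exact h3
    · exfalso
      haveI : CharZero (B k r q) := charZero_of_injective_algebraMap (algebraMap k (B k r q)).injective
      exact_mod_cast h3

/-- If `f` divides all its derivatives it comes from `(y, z)`. -/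
theorem exists_tau_of_dvd_D [CharZero k] {f : G k r q} (hf : ∀ l i, f ∣ D l i f) : ∃ b, f = tau b := by
  classical
  refine exists_tau_of_D_eq_zero fun l i => psi_injective ?_
  rw [map_zero]
  by_contra hne
  have hdvd : psi f ∣ pderiv (l, i) (psi f) := psi_D l i f ▸ map_dvd psi (hf l i)
  rw [psi_D] at hne
  have h0 : psi f ≠ 0 := fun h => hne (by rw [h, map_zero])
  have h1 := totalDegree_le_of_dvd_of_isDomain hdvd hne
  obtain ⟨s, hs, hsd⟩ := Finset.exists_mem_eq_sup _ (support_nonempty.2 hne) (fun s => s.sum fun _ n => n)
  rw [mem_support_iff, coeff_pderiv] at hs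
  have h2 := le_totalDegree (p := psi f) (s := s + Finsupp.single (l, i) 1)
    (mem_support_iff.2 (left_ne_zero_of_mul hs))
  rw [Finsupp.sum_add_index' (fun _ => rfl) (fun _ _ _ => rfl), Finsupp.sum_single_index rfl] at h2
  have hsd' : (pderiv (l, i) (psi f)).totalDegree = s.sum fun _ n => n := hsd
  rw [hsd'] at h1
  omega

end Groth.Agent.H02CA.GM
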