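import Groth.Agent.H02CA.GM.Coord

/-!
Functionals on all members of a family give a functional over the generic member.
-/

set_option autoImplicit false

namespace Groth.Agent.H02CA.GM

universe u v

open MvPolynomial

section LinAlg

variable {k : Type u} [Field k] [Infinite k] {P : Type*} {U S : Type*} [Fintype U] [Fintype S]

/-- A matrix of polynomials with a kernel at every point has a polynomial kernel vector. -/
theorem exists_kernel (M : Matrix S U (MvPolynomial P k))
    (h : ∀ p : P → k, ∃ x : U → k, x ≠ 0 ∧ ∀ s, ∑ u, eval p (M s u) * x u = 0) :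
    ∃ x : U → MvPolynomial P k, x ≠ 0 ∧ ∀ s, ∑ u, M s u * x u = 0 := by
  classical
  by_contra hne
  push Not at hne
  let Fr := FractionRing (MvPolynomial P k)
  let ι := algebraMap (MvPolynomial P k) Fr
  have hinj : Function.Injective (M.map ι).mulVecLin := by
    refine LinearMap.ker_eq_bot.1 (LinearMap.ker_eq_bot'.2 fun z hz => ?_)
    obtain ⟨b, hb⟩ := IsLocalization.exist_integer_multiples_of_finite (nonZeroDivisors (MvPolynomial P k)) z
    choose x hx using hb
    by_contra hz0
    have hx0 : x ≠ 0 := fun h0 => hz0 (funext fun u => by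
      have := hx u
      rw [h0, Pi.zero_apply, map_zero, Algebra.smul_def] at this
      exact (mul_eq_zero.1 this.symm).resolve_left
        ((map_ne_zero_iff _ (IsFractionRing.injective _ Fr)).2 (nonZeroDivisors.coe_ne_zero b)))
    obtain ⟨s, hs⟩ := hne x hx0
    refine hs (IsFractionRing.injective (MvPolynomial P k) Fr ?_)
    have := congrFun hz s
    simp only [Matrix.mulVecLin_apply, Matrix.mulVec, dotProduct, Matrix.map_apply, Pi.zero_apply] at this
    rw [map_sum, map_zero, ← mul_zero (algebraMap (MvPolynomial P k) Fr (b : MvPolynomial P k)), ← this, Finset.mul_sum]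
    refine Finset.sum_congr rfl fun u _ => ?_
    rw [map_mul, hx u, Algebra.smul_def]
    ring
  obtain ⟨g, hg⟩ := LinearMap.exists_leftInverse_of_injective _ (LinearMap.ker_eq_bot.2 hinj)
  let A := LinearMap.toMatrix' g
  have hA : A * M.map ι = 1 := by
    have h1 : LinearMap.toMatrix' (g.comp (M.map ι).mulVecLin) = LinearMap.toMatrix' LinearMap.id := by rw [hg]
    rw [LinearMap.toMatrix'_comp, LinearMap.toMatrix'_id, ← Matrix.toLin'_apply', LinearMap.toMatrix'_toLin'] at h1
    exact h1
  obtain ⟨b, hb⟩ := IsLocalization.exist_integer_multiples_of_finite (nonZeroDivisors (MvPolynomial P k))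
    (fun su : U × S => A su.1 su.2)
  choose A₀ hA₀ using hb
  have hA₀M : ∀ u u', ∑ s, A₀ (u, s) * M s u' = if u = u' then (b : MvPolynomial P k) else 0 := fun u u' => by
    refine IsFractionRing.injective (MvPolynomial P k) Fr ?_
    have h1 := congrFun (congrFun hA u) u'
    rw [Matrix.mul_apply, Matrix.one_apply] at h1
    rw [map_sum, apply_ite ι, map_zero,
      show (if u = u' then ι (b : MvPolynomial P k) else 0) = ι (b : MvPolynomial P k) * (if u = u' then 1 else 0) by
        split_ifs <;> simp, ← h1, Finset.mul_sum]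
    refine Finset.sum_congr rfl fun s _ => ?_
    rw [map_mul, hA₀ (u, s), Algebra.smul_def, Matrix.map_apply]
    ring
  obtain ⟨p, hp⟩ : ∃ p : P → k, eval p (b : MvPolynomial P k) ≠ 0 := by
    by_contra h'
    push Not at h'
    exact nonZeroDivisors.coe_ne_zero b (MvPolynomial.funext fun p => (h' p).trans (map_zero _).symm)
  obtain ⟨x, hx0, hx⟩ := h p
  refine hx0 (funext fun u => ?_)
  have h2 : ∑ s, eval p (A₀ (u, s)) * ∑ u', eval p (M s u') * x u' = 0 :=
    Finset.sum_eq_zero fun s _ => by rw [hx, mul_zero]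
  simp only [Finset.mul_sum] at h2
  rw [Finset.sum_comm] at h2
  simp only [← mul_assoc, ← Finset.sum_mul, ← map_mul, ← map_sum, hA₀M, apply_ite (eval p), map_zero, ite_mul,
    zero_mul, Finset.sum_ite_eq, Finset.mem_univ, if_true] at h2
  exact (mul_eq_zero.1 h2).resolve_left hp

end LinAlg

variable {k : Type u} [Field k] {r q : ℕ}

/-- Specialisation of the parameters. -/
noncomputable def spec (p : Par r q → k) : G k r q →ₐ[k] MvPolynomial (Fin r) k :=
  aeval (Sum.elim X fun v => C (p v))

/-- The coordinates over the parameters. -/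
noncomputable abbrev coef : G k r q ≃ₐ[k] MvPolynomial (Fin r) (MvPolynomial (Par r q) k) :=
  sumAlgEquiv k (Fin r) (Par r q)

theorem map_coef (p : Par r q → k) (f : G k r q) : MvPolynomial.map (eval p) (coef f) = spec p f := by
  have : (MvPolynomial.map (eval p)).comp (coef (k := k) (r := r) (q := q)).toRingEquiv.toRingHom = (spec p).toRingHom := by
    refine MvPolynomial.ringHom_ext (fun a => ?_) (fun v => ?_)
    · simp [spec, MvPolynomial.algebraMap_eq]
    · rcases v with i | v <;> simp [spec]
  exact RingHom.congr_fun this f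

/-- The degree in `y` of a monomial over the parameters. -/
theorem degY_symm_monomial (s : Fin r →₀ ℕ) (x : MvPolynomial (Par r q) k) :
    degY (coef.symm (monomial s x)) ≤ s.sum fun _ n => n := by
  classical
  rw [monomial_eq, map_mul, Finsupp.prod, map_prod]
  refine (degY_mul_le _ _).trans ?_
  have h1 : degY (coef.symm (C x) : G k r q) = 0 := by
    have h2 : ∀ f : MvPolynomial (Par r q) k, ∃ g, phi (rename Sum.inr f : G k r q) = Polynomial.C g := fun f => by
      induction f using MvPolynomial.induction_on with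
      | C a => exact ⟨C a, by simp [phi, Polynomial.algebraMap_apply]⟩
      | add a b ha hb =>
        obtain ⟨g₁, h₁⟩ := ha; obtain ⟨g₂, h₂⟩ := hb
        exact ⟨g₁ + g₂, by rw [map_add, map_add, h₁, h₂, map_add]⟩
      | mul_X a v ha =>
        obtain ⟨g₁, h₁⟩ := ha
        exact ⟨g₁ * X (Sum.inr v), by rw [map_mul, map_mul, h₁, rename_X, map_mul]; simp [phi]⟩
    obtain ⟨g, hg⟩ := h2 x
    have : (coef.symm (C x) : G k r q) = rename Sum.inr x := by
      rw [AlgEquiv.symm_apply_eq]
      have : (C : MvPolynomial (Par r q) k →+* _) = (coef (k := k) (r := r) (q := q)).toRingEquiv.toRingHom.comp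
          (rename Sum.inr).toRingHom := MvPolynomial.ringHom_ext (fun a => by simp [MvPolynomial.algebraMap_eq]) (fun v => by simp)
      exact RingHom.congr_fun this x
    rw [degY, this, hg, Polynomial.natDegree_C]
  rw [h1, zero_add, degY, map_prod]
  refine (Polynomial.natDegree_prod_le _ _).trans (Finset.sum_le_sum fun i _ => ?_)
  rw [map_pow, map_pow]
  refine Polynomial.natDegree_pow_le.trans ?_
  have : (coef.symm (X i) : G k r q) = X (Sum.inl i) := by rw [AlgEquiv.symm_apply_eq]; simp
  rw [this, ← degY, degY_y, mul_one]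

/-- Functionals on all members give one over the generic member. -/
theorem exists_generic [Infinite k] {N : Type v} [Fintype N] (Rel : Finset (N → B k r q)) (d : ℕ)
    (h : ∀ p : Par r q → k, ∃ χ : N → MvPolynomial (Fin r) k, (∃ e, χ e ≠ 0) ∧ (∀ e, (χ e).totalDegree ≤ d) ∧
      ∀ v ∈ Rel, ∑ e, spec p (tau (v e)) * χ e = 0) :
    ∃ φ : N → G k r q, (∃ e, φ e ≠ 0) ∧ (∀ e, degY (φ e) ≤ d) ∧ ∀ v ∈ Rel, ∑ e, tau (v e) * φ e = 0 := by
  classical
  let Mon : Finset (Fin r →₀ ℕ) := (Finset.range (d + 1)).biUnion fun n => (Finset.univ : Finset (Fin r)).finsuppAntidiag n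
  have hMon : ∀ s : Fin r →₀ ℕ, s ∈ Mon ↔ (s.sum fun _ n => n) ≤ d := fun s => by
    simp [Mon, Finsupp.sum_fintype]
  let U := N × {s // s ∈ Mon}
  let col : U → (N → B k r q) → MvPolynomial (Fin r) (MvPolynomial (Par r q) k) := fun u v =>
    coef (tau (v u.1)) * monomial u.2.1 1
  let St := Rel.biUnion fun v => Finset.univ.biUnion fun u : U => ((col u v).support).image fun t => (v, t)
  let M : Matrix {st // st ∈ St} U (MvPolynomial (Par r q) k) := fun st u => coeff st.1.2 (col u st.1.1)
  obtain ⟨x, hx0, hx⟩ := exists_kernel M fun p => by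
    obtain ⟨χ, ⟨e₀, he₀⟩, hdeg, hχ⟩ := h p
    refine ⟨fun u => coeff u.2.1 (χ u.1), fun h0 => he₀ (MvPolynomial.ext _ _ fun s => ?_), ?_⟩
    · rw [coeff_zero]
      by_cases hs : (s.sum fun _ n => n) ≤ d
      · exact congrFun h0 (e₀, ⟨s, (hMon s).2 hs⟩)
      · exact notMem_support_iff.1 fun hs' => hs ((le_totalDegree hs').trans (hdeg e₀))
    rintro ⟨⟨v, t⟩, hst⟩
    have hv : v ∈ Rel := by
      obtain ⟨v', hv', h'⟩ := Finset.mem_biUnion.1 hst
      obtain ⟨u, -, h''⟩ := Finset.mem_biUnion.1 h'
      obtain ⟨t', -, heq⟩ := Finset.mem_image.1 h''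
      exact (Prod.mk.inj heq).1 ▸ hv'
    have hexp : ∀ e, χ e = ∑ s : {s // s ∈ Mon}, monomial s.1 (coeff s.1 (χ e)) := fun e => by
      conv_lhs => rw [(χ e).as_sum]
      rw [Finset.sum_coe_sort Mon (fun s => monomial s (coeff s (χ e)))]
      refine Finset.sum_subset (fun s hs => (hMon s).2 ((le_totalDegree hs).trans (hdeg e))) fun s _ hs => ?_
      rw [notMem_support_iff.1 hs, monomial_zero]
    have h1 := congrArg (coeff t) (hχ v hv)
    rw [coeff_zero, coeff_sum] at h1
    refine Eq.trans ?_ h1
    rw [Fintype.sum_prod_type]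
    refine Finset.sum_congr rfl fun e _ => ?_
    conv_rhs => rw [hexp e, Finset.mul_sum, coeff_sum]
    refine Finset.sum_congr rfl fun s _ => ?_
    show eval p (coeff t (coef (tau (v e)) * monomial s.1 1)) * _ = _
    rw [← map_coef p, ← coeff_map, map_mul, map_monomial, map_one, mul_comm _ (coeff s.1 (χ e)), ← coeff_C_mul,
      mul_left_comm, C_mul_monomial, mul_one]
  refine ⟨fun e => ∑ s : {s // s ∈ Mon}, coef.symm (monomial s.1 (x (e, s))), ?_, fun e => ?_, fun v hv => ?_⟩
  · by_contra h'
    push Not at h'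
    refine hx0 (funext fun ⟨e, s⟩ => ?_)
    have := congrArg (fun f => coeff s.1 (coef f)) (h' e)
    simp only [map_sum, AlgEquiv.apply_symm_apply, map_zero, coeff_sum, coeff_monomial, coeff_zero] at this
    rwa [Finset.sum_eq_single s (fun s' _ hne => if_neg fun h => hne (Subtype.ext h)) (by simp), if_pos rfl] at this
  · rw [degY, map_sum]
    exact Polynomial.natDegree_sum_le_of_forall_le _ _ fun s _ =>
      (degY_symm_monomial s.1 _).trans ((hMon s.1).1 s.2)
  · refine coef.injective (MvPolynomial.ext _ _ fun t => ?_)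
    rw [map_zero, coeff_zero, map_sum, coeff_sum]
    have hterm : ∀ (e : N) (s : {s // s ∈ Mon}),
        coeff t (coef (tau (v e)) * monomial s.1 (x (e, s))) = coeff t (col (e, s) v) * x (e, s) := fun e s => by
      rw [show monomial s.1 (x (e, s)) = monomial s.1 1 * C (x (e, s)) by rw [mul_comm, C_mul_monomial, mul_one],
        ← mul_assoc, mul_comm _ (C _), coeff_C_mul, mul_comm]
    have hval : ∀ e, coeff t (coef (tau (v e) * ∑ s : {s // s ∈ Mon}, coef.symm (monomial s.1 (x (e, s))))) =
        ∑ s : {s // s ∈ Mon}, coeff t (col (e, s) v) * x (e, s) := fun e => by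
      rw [map_mul, map_sum, Finset.mul_sum, coeff_sum]
      simp only [AlgEquiv.apply_symm_apply, hterm]
    simp only [hval]
    rw [← Fintype.sum_prod_type (fun u : U => coeff t (col u v) * x u)]
    by_cases hst : (v, t) ∈ St
    · exact hx ⟨(v, t), hst⟩
    · refine Finset.sum_eq_zero fun u _ => ?_
      have h0 : coeff t (col u v) = 0 := by
        refine notMem_support_iff.1 fun ht => hst ?_
        exact Finset.mem_biUnion.2 ⟨v, hv, Finset.mem_biUnion.2 ⟨u, Finset.mem_univ _, Finset.mem_image.2 ⟨t, ht, rfl⟩⟩⟩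
      exact mul_eq_zero_of_left h0 _

end Groth.Agent.H02CA.GM
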