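import Groth.Agent.H02CA.GM.Chart
import Groth.Agent.H02CA.GM.Family
import Groth.Agent.H11Proj.ProjData
import Groth.Agent.H22Alg.MumfordStep
import Mathlib

/-!
The members `z = m + c y` of the family of linear subspaces, as closed immersions of projective spaces.
-/

set_option autoImplicit false
set_option backward.isDefEq.respectTransparency false
set_option linter.style.haveILetI false

universe u

open CategoryTheory CategoryTheory.Limits AlgebraicGeometry TopologicalSpace Opposite MvPolynomial
open Groth.Agent Groth.Agent.H11Tilde Groth.Agent.H11Ample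
open CohB1 (polyGrading)

noncomputable section

namespace Groth.Agent.H02CA.GM

variable {k : Type u} [Field k] {r q : ℕ}

/-- Dehomogenisation with the coordinates split. -/
def dh : MvPolynomial (Fin (r + q + 1)) k →ₐ[k] B k r q :=
  (rename (finSumFinEquiv (m := r) (n := q)).symm).comp H23Proj.dehom

theorem totalDegree_dh_le {d : ℕ} {a : MvPolynomial (Fin (r + q + 1)) k} (ha : a.IsHomogeneous d) :
    (dh a : B k r q).totalDegree ≤ d :=
  (totalDegree_rename_le _ _).trans (H23Proj.totalDegree_dehom_le ha)

/-- The chart `x₀ ≠ 0` with the coordinates split. -/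
def coordEquiv : Γ(Proj (polyGrading (r + q) k), Dp 0) ≃+* B k r q :=
  dehEquiv.trans (renameEquiv k (finSumFinEquiv (m := r) (n := q)).symm).toRingEquiv

theorem coordEquiv_ratio {d : ℕ} {a : MvPolynomial (Fin (r + q + 1)) k} (ha : a ∈ polyGrading (r + q) k d) :
    coordEquiv (ratio (polyGrading (r + q) k) (Xh 0) ha) = (dh a : B k r q) := by
  rw [coordEquiv, RingEquiv.trans_apply, dehEquiv_ratio]
  rfl

variable (p : Par r q → k)

/-- The images of the coordinates. -/
def mImages : Fin (r + q + 1) → MvPolynomial (Fin (r + 1)) k :=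
  Fin.cases (X 0) fun j => Sum.elim (fun i => X i.succ)
    (fun l => C (p (Sum.inl l)) * X 0 + ∑ i, C (p (Sum.inr (l, i))) * X i.succ)
    ((finSumFinEquiv (m := r) (n := q)).symm j)

theorem isHomogeneous_mImages (t : Fin (r + q + 1)) : (mImages p t).IsHomogeneous 1 := by
  refine Fin.cases ?_ (fun j => ?_) t
  · exact isHomogeneous_X _ _
  · simp only [mImages, Fin.cases_succ]
    generalize (finSumFinEquiv (m := r) (n := q)).symm j = v
    rcases v with i | l
    · exact isHomogeneous_X _ _
    · exact (isHomogeneous_C_mul_X _ _).add (IsHomogeneous.sum _ _ _ fun i _ => isHomogeneous_C_mul_X _ _)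

/-- The map to the coordinate ring of a member. -/
def mHom : MvPolynomial (Fin (r + q + 1)) k →ₐ[k] MvPolynomial (Fin (r + 1)) k := aeval (mImages p)

theorem mHom_zero : mHom p (X 0) = X 0 := by rw [mHom, aeval_X]; rfl

theorem mHom_mem {d : ℕ} {x : MvPolynomial (Fin (r + q + 1)) k} (hx : x ∈ polyGrading (r + q) k d) :
    mHom p x ∈ polyGrading r k d := by
  have h := IsHomogeneous.aeval (m := d) (n := 1) hx (mImages p) (isHomogeneous_mImages p)
  rw [one_mul] at h
  exact h

/-- The map as a graded homomorphism. -/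
def mGraded : polyGrading (r + q) k →+*ᵍ polyGrading r k :=
  { (mHom p).toRingHom with map_mem := fun {_ _} hx => mHom_mem p hx }

/-- The section. -/
def mSec : MvPolynomial (Fin (r + 1)) k →ₐ[k] MvPolynomial (Fin (r + q + 1)) k :=
  rename (Fin.cases 0 fun i => (finSumFinEquiv (m := r) (n := q) (Sum.inl i)).succ)

theorem mHom_mSec (y : MvPolynomial (Fin (r + 1)) k) : mHom p (mSec y) = y := by
  rw [mHom, mSec, aeval_rename, show mImages p ∘ (Fin.cases 0 fun i =>
      (finSumFinEquiv (m := r) (n := q) (Sum.inl i)).succ) = X from funext fun i => by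
    refine Fin.cases ?_ (fun i => ?_) i
    · rfl
    · simp [mImages, -finSumFinEquiv_apply_left]]
  exact aeval_X_left_apply y

theorem surjective_mGraded : Function.Surjective (mGraded p) := fun y => ⟨mSec y, mHom_mSec p y⟩

theorem irrelevant_le_mGraded :
    HomogeneousIdeal.irrelevant (polyGrading r k) ≤
      (HomogeneousIdeal.irrelevant (polyGrading (r + q) k)).map (mGraded p) := by
  change (HomogeneousIdeal.irrelevant (polyGrading r k)).toIdeal ≤
    ((HomogeneousIdeal.irrelevant (polyGrading (r + q) k)).map (mGraded p)).toIdeal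
  rw [H11Proj.irrelevant_le_iff]
  intro d hd y hy
  rw [HomogeneousIdeal.toIdeal_map]
  have h := Ideal.mem_map_of_mem (mGraded p)
    (H11Proj.mem_irrelevant_of_pos (polyGrading (r + q) k) hd
      (show mSec y ∈ polyGrading (r + q) k d from MvPolynomial.IsHomogeneous.rename_isHomogeneous hy))
  rw [show mGraded p (mSec y) = y from mHom_mSec p y] at h
  exact h

/-- The member of the family. -/
def member : Proj (polyGrading r k) ⟶ Proj (polyGrading (r + q) k) :=
  Proj.map (mGraded p) (irrelevant_le_mGraded p)

instance isClosedImmersion_member : IsClosedImmersion (member p) :=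
  H11Proj.isClosedImmersion_map _ _ (surjective_mGraded p)

theorem member_toSpec : member p ≫ CohB1.ProjSpace.toSpec (r + q) k = CohB1.ProjSpace.toSpec r k := by
  show Proj.map _ _ ≫ Proj.toSpecZero _ ≫ _ = Proj.toSpecZero _ ≫ _
  rw [H11Proj.map_toSpecZero_assoc, ← Spec.map_comp]
  congr 2
  ext c
  exact congrArg (MvPolynomial.coeff _) ((mHom p).commutes c)

set_option maxHeartbeats 3200000 in
/-- The pullback of `O(1)` is `O(1)`. -/
theorem nonempty_member_iso :
    Nonempty ((Scheme.Modules.pullback (member p)).obj (GrTwist.twist (polyGrading (r + q) k) 1) ≅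
      GrTwist.twist (polyGrading r k) 1) := by
  let φ := mGraded p
  let V : Fin (r + q + 1) → (Proj (polyGrading r k)).Opens := fun t => member p ⁻¹ᵁ Dp t
  have hV : ∀ x, ∃ t, x ∈ V t := fun x => by
    obtain ⟨t, ht⟩ := Opens.mem_iSup.1 ((H11Proj.ProjSpace.iSup_basicOpen (n := r + q) (R := k)).ge
      (trivial : (member p).base x ∈ (⊤ : (Proj (polyGrading (r + q) k)).Opens)))
    exact ⟨t, ht⟩
  have hg : ∀ t, φ (MvPolynomial.X t) ∈ polyGrading r k 1 := fun t => φ.2 (Xh t)
  have hle : ∀ t, V t ≤ Proj.basicOpen (polyGrading r k) (φ (MvPolynomial.X t)) := fun t => le_rfl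
  obtain ⟨e, -⟩ := exists_iso_of_gen (X := Proj (polyGrading r k))
    (P := (Scheme.Modules.pullback (member p)).obj (GrTwist.twist (polyGrading (r + q) k) 1))
    (Q := GrTwist.twist (polyGrading r k) 1) V hV
    (fun t => ((Scheme.Modules.pullback (member p)).obj (GrTwist.twist (polyGrading (r + q) k) 1)).presheaf.map
      (homOfLE (le_top : V t ≤ ⊤)).op
      (ProjUP.pullSec (member p) (GrTwist.twist (polyGrading (r + q) k) 1) (globalSec _ (Xh t))))
    (fun t => isGen_pullSec (polyGrading (r + q) k) (member p) (Xh t) le_rfl)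
    (fun t => (GrTwist.twist (polyGrading r k) 1).presheaf.map (homOfLE (le_top : V t ≤ ⊤)).op
      (globalSec _ (hg t)))
    (fun t => by
      have h := (isGen_globalSec (polyGrading r k) (hg t)).res (hle t)
      rwa [H10Coh.mres_mres] at h)
    (fun i j u hu => by
      rw [H10Coh.mres_mres, H10Coh.mres_mres] at hu ⊢
      have hj : V i ⊓ V j ≤ member p ⁻¹ᵁ Dp j := inf_le_right
      rw [pullSec_res (polyGrading (r + q) k) (member p) (Xh i) (Xh j) hj] at hu
      have huv := ((isGen_pullSec (polyGrading (r + q) k) (member p) (Xh j) hj).bijective le_rfl).1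
        (a₁ := (member p).appLE _ _ hj (ratio _ (Xh j) (Xh i))) (a₂ := u) (by
          simpa only [H10Coh.mres_self] using hu)
      rw [← huv]
      have h1 : (member p).appLE (Dp j) (V i ⊓ V j) hj
          (ratio _ (Xh j) (Xh i)) = (Proj (polyGrading r k)).presheaf.map
            (homOfLE (inf_le_right : V i ⊓ V j ≤ V j)).op (ratio (polyGrading r k) (hg j) (hg i)) := by
        rw [← Scheme.Hom.appLE_map (member p) (le_rfl : V j ≤ _) (homOfLE (inf_le_right : V i ⊓ V j ≤ V j)).op,
          CommRingCat.comp_apply]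
        congr 1
        refine (congr($(Proj.awayToSection_comp_appLE φ (irrelevant_le_mGraded p) (Xh j))
          (HomogeneousLocalization.Away.mk _ (Xh j) 1 _ (by simpa using Xh i)))).trans ?_
        exact congrArg (Proj.awayToSection (polyGrading r k) (φ (MvPolynomial.X j)))
          (HomogeneousLocalization.Away.map_mk φ (MvPolynomial.X j) (Xh j) 1 _ (by simpa using Xh i))
      have h2 := congrArg ((GrTwist.twist (polyGrading r k) 1).presheaf.map
        (homOfLE (inf_le_right.trans (hle j) : V i ⊓ V j ≤ _)).op)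
        (globalSec_eq_ratio_smul (polyGrading r k) (hg j) (hg i))
      rw [Scheme.Modules.map_smul, H10Coh.mres_mres, H10Coh.mres_mres] at h2
      rw [h1]
      exact h2)
  exact ⟨e⟩

theorem Dp_le_preimage : (Dp 0 : (Proj (polyGrading r k)).Opens) ≤ member p ⁻¹ᵁ Dp 0 := by
  show Proj.basicOpen (polyGrading r k) (X 0) ≤ Proj.basicOpen (polyGrading r k) (mHom p (X 0))
  rw [mHom_zero]

theorem dehom_mHom (a : MvPolynomial (Fin (r + q + 1)) k) :
    H23Proj.dehom (mHom p a) = spec p (tau (dh a)) := by
  suffices h : (H23Proj.dehom (k := k) (n := r)).comp (mHom p) = (spec p).comp (tau.comp dh) from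
    DFunLike.congr_fun h a
  refine MvPolynomial.algHom_ext fun t => ?_
  refine Fin.cases ?_ (fun j => ?_) t
  · simp [mHom, mImages, dh, H23Proj.dehom]
  · obtain ⟨v, rfl⟩ := (finSumFinEquiv (m := r) (n := q)).surjective j
    rcases v with i | l <;>
      simp [mHom, mImages, dh, H23Proj.dehom, tau, spec, -finSumFinEquiv_apply_left, -finSumFinEquiv_apply_right]

/-- Restriction of functions on the charts. -/
theorem deh_appLE (x : Γ(Proj (polyGrading (r + q) k), Dp 0)) :
    deh ((member p).appLE (Dp 0) (Dp 0) (Dp_le_preimage p) x) = spec p (tau (coordEquiv x)) := by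
  obtain ⟨d, a, ha, rfl⟩ := H11Proj.exists_eq_ratio (polyGrading (r + q) k) (Xh 0) x
  rw [coordEquiv_ratio, ← dehom_mHom, ← deh_ratio (mHom_mem p ha)]
  refine congrArg deh ?_
  rw [← Scheme.Hom.appLE_map (member p) (le_rfl : member p ⁻¹ᵁ Dp 0 ≤ _) (homOfLE (Dp_le_preimage p)).op,
    CommRingCat.comp_apply]
  refine fval_ext _ fun y => ?_
  refine Eq.trans ?_ (fval_ratio (polyGrading r k) (Xh 0) (mHom_mem p ha) y).symm
  refine (congrArg (fun z => fval (polyGrading r k) z ⟨y.1, Dp_le_preimage p y.2⟩)
    ((congr($(Proj.awayToSection_comp_appLE (mGraded p) (irrelevant_le_mGraded p) (Xh 0))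
      (HomogeneousLocalization.Away.mk _ (Xh 0) d _ (by simpa using ha)))).trans
    (congrArg (Proj.awayToSection (polyGrading r k) (mGraded p (MvPolynomial.X 0)))
      (HomogeneousLocalization.Away.map_mk (mGraded p) (MvPolynomial.X 0) (Xh 0) d _ (by simpa using ha))))).trans ?_
  refine (fval_awayToSection (polyGrading r k) (d := 1) _ d _ _ _).trans ?_
  exact congrArg (Localization.mk _) (Subtype.ext (congrArg (· ^ d) (mHom_zero p)))

end Groth.Agent.H02CA.GM
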