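import Groth.Agent.H02CA.GM.Wedges
import Groth.Agent.H02CA.GM.Member
import Groth.Agent.H02CA.GM.Core

/-!
A rank two module with no small functionals has none on some linear subspace.
-/

set_option autoImplicit false
set_option backward.isDefEq.respectTransparency false
set_option linter.style.haveILetI false
set_option maxHeartbeats 1600000

universe u

open CategoryTheory CategoryTheory.Limits AlgebraicGeometry TopologicalSpace Opposite MvPolynomial
open Groth.Agent Groth.Agent.H11Tilde
open CohB1 (polyGrading)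

noncomputable section

namespace Groth.Agent.H02CA.GM

variable {k : Type u} [Field k]

/-- A form of degree `d` whose dehomogenisation has smaller degree vanishes at the points with `x₀ = 0`. -/
theorem eval_hom_eq_zero {n D : ℕ} {p : MvPolynomial (Fin n) k} (hp : p.totalDegree < D) {v : Fin (n + 1) → k}
    (hv : v 0 = 0) : eval v (H23Proj.hom D p) = 0 := by
  rw [H23Proj.hom, map_sum]
  refine Finset.sum_eq_zero fun e he => ?_
  rw [map_mul, map_pow, eval_X, hv]
  rcases Nat.lt_or_ge e D with h | h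
  · rw [zero_pow (by omega), zero_mul]
  · rw [homogeneousComponent_eq_zero _ _ (by omega), map_zero, map_zero, mul_zero]

theorem exists_dh_eq {r q d : ℕ} {η : B k r q} (h : η.totalDegree ≤ d) :
    ∃ (a : MvPolynomial (Fin (r + q + 1)) k), a ∈ polyGrading (r + q) k d ∧ (dh a : B k r q) = η := by
  refine ⟨H23Proj.hom d (renameEquiv k (finSumFinEquiv (m := r) (n := q)) η), H23Proj.hom_isHomogeneous _ _, ?_⟩
  rw [dh, AlgHom.comp_apply, H23Proj.dehom_hom ((totalDegree_renameEquiv _ η).trans_le h), renameEquiv_apply,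
    rename_rename, Equiv.symm_comp_self, rename_id, AlgHom.id_apply]

variable {r q : ℕ}

local notation "P" => Proj (polyGrading (r + q) k)

/-- If a rank two module has no nonzero map to `O(d)`, neither has its restriction to some member. -/
theorem exists_member [CharZero k] (hr : 0 < r) {F M : (P).Modules} (hF : FlatMod.IsFinLocFreeOfRank 2 F)
    {N : Type u} [Fintype N] {s : N → Γ(F, ⊤)} (hs : Spans s) (hM : ExtPow.IsExtPow 2 F M) {D d : ℕ}
    (μ : M ≅ O (r + q) k D) (hd : 2 * d + 1 < D ∨ (2 * d + 1 = D ∧ 1 < r))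
    (hhom : ∀ g : F ⟶ O (r + q) k d, g = 0) :
    ∃ p : Par r q → k, ∀ g : (Scheme.Modules.pullback (member p)).obj F ⟶ O r k d, g = 0 := by
  classical
  obtain ⟨Pw, hPw, halt, hspan, hplu, hrel⟩ := exists_wedgeForms hF hs hM μ
  haveI : IsIntegral (P) := LeadPic.PnRel.isIntegral_projSpace (n := r + q) k
  let Φ : Γ(P, Dp 0) ≃+* B k r q := coordEquiv
  let W : N → N → B k r q := fun a b => dh (Pw a b)
  have hW : ∀ a b, Φ (ratio (polyGrading (r + q) k) (Xh 0) (hPw a b)) = W a b := fun a b => coordEquiv_ratio _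
  let Rel : Set (N → B k r q) := {v | ∑ e, Φ.symm (v e) • rs s e (Dp 0) = 0}
  have hWalt : ∀ a b, W b a = -W a b := fun a b => by rw [← hW, ← hW, halt, map_neg]
  have hplu' : ∀ a b e, plucker W a b e ∈ Rel := fun a b e => by
    show ∑ x, _ = (0 : Γ(F, Dp 0))
    simp only [plucker, map_add, apply_ite Φ.symm, map_zero, add_smul, ite_smul, zero_smul, Finset.sum_add_distrib,
      Finset.sum_ite_eq', Finset.mem_univ, if_true, ← hW, RingEquiv.symm_apply_apply]
    exact hplu 0 a b e
  have hfun : ∀ j, Orth Rel fun e => W e j := fun j v hv => by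
    have h := congrArg Φ (hrel (Dp 0) (fun e => Φ.symm (v e)) hv 0 (Dp 0) le_rfl le_rfl j)
    simp only [rR, homOfLE_refl, op_id, CategoryTheory.Functor.map_id, CommRingCat.hom_id, RingHom.id_apply, map_sum,
      map_mul, RingEquiv.apply_symm_apply, hW, map_zero] at h
    simp only [hWalt j, mul_neg, Finset.sum_neg_distrib, h, neg_zero]
  obtain ⟨u₀, hu₀⟩ := hspan 0
  have hunit : ∃ u : N → N → B k r q, ∑ a, ∑ b, u a b * W a b = 1 :=
    ⟨fun a b => Φ (u₀ a b), by simpa only [map_sum, map_mul, hW, map_one] using congrArg Φ hu₀⟩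
  -- some wedge has full degree
  have hn : 1 < r + q + 1 := by omega
  obtain ⟨a₀, b₀, hab⟩ : ∃ a b, (W a b).totalDegree = D ∧ W a b ≠ 0 := by
    let i₁ : Fin (r + q + 1) := ⟨1, hn⟩
    let v : Fin (r + q + 1) → k := Pi.single i₁ 1
    obtain ⟨u, hu⟩ := hspan i₁
    have h1 : (eval v : MvPolynomial (Fin (r + q + 1)) k →+* k) (X i₁) = 1 := by simp [v]
    have h2 := congrArg (secHom i₁ (eval v) h1) hu
    simp only [map_sum, map_mul, secHom_ratio, map_one] at h2
    obtain ⟨a, b, hab⟩ : ∃ a b, eval v (Pw a b) ≠ 0 := by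
      by_contra h
      push Not at h
      simp [h] at h2
    have hWe : (W a b).totalDegree = (H23Proj.dehom (Pw a b)).totalDegree :=
      totalDegree_renameEquiv (finSumFinEquiv (m := r) (n := q)).symm _
    refine ⟨a, b, le_antisymm (totalDegree_dh_le (hPw a b)) (not_lt.1 fun hlt => hab ?_), fun h0 => hab ?_⟩
    · rw [← H23Proj.eq_of_dehom_eq (H23Proj.hom_isHomogeneous D (H23Proj.dehom (Pw a b))) (hPw a b)
        (H23Proj.dehom_hom (H23Proj.totalDegree_dehom_le (hPw a b)))]
      refine eval_hom_eq_zero (hWe ▸ hlt) (Pi.single_eq_of_ne ?_ _)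
      exact Fin.ne_of_val_ne (show (0 : ℕ) ≠ 1 by omega)
    · have : H23Proj.dehom (Pw a b) = 0 :=
        rename_injective _ (finSumFinEquiv (m := r) (n := q)).symm.injective (h0.trans (map_zero _).symm)
      rw [H23Proj.eq_zero_of_dehom_eq_zero (hPw a b) this, map_zero]
  -- the relations are finitely generated
  haveI : IsNoetherianRing Γ(P, Dp 0) := isNoetherianRing_of_ringEquiv (B k r q) Φ.symm
  let π₀ : (N → Γ(P, Dp 0)) →ₗ[Γ(P, Dp 0)] Γ(F, Dp 0) :=
    { toFun := fun c => ∑ e, c e • rs s e (Dp 0)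
      map_add' := fun c c' => by simp only [Pi.add_apply, add_smul, Finset.sum_add_distrib]
      map_smul' := fun a c => by simp only [Pi.smul_apply, smul_eq_mul, mul_smul, Finset.smul_sum, RingHom.id_apply] }
  obtain ⟨G, hG⟩ := IsNoetherian.noetherian (LinearMap.ker π₀)
  by_contra hcon
  push Not at hcon
  obtain ⟨φ, hφ0, hφd, hφ⟩ := exists_generic (G.image fun c e => Φ (c e)) d fun p => by
    obtain ⟨g, hg⟩ := hcon p
    let adj := Scheme.Modules.pullbackPushforwardAdjunction (member p)
    let g' : F ⟶ (Scheme.Modules.pushforward (member p)).obj (O r k d) := adj.homEquiv _ _ g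
    have hg' : g' ≠ 0 := fun h0 => hg (by
      rw [← (adj.homEquiv _ _).symm_apply_apply g]
      show (adj.homEquiv _ _).symm g' = 0
      rw [h0, Adjunction.homEquiv_counit, Functor.map_zero, zero_comp])
    choose χ hχ hσ using fun e => exists_form (k := k) (n := r) (d := d) (g'.app ⊤ (s e))
    refine ⟨fun e => H23Proj.dehom (χ e), ?_, fun e => H23Proj.totalDegree_dehom_le (hχ e), fun v hv => ?_⟩
    · by_contra hz
      push Not at hz
      haveI : Nonempty (Dp (k := k) (n := r) 0) := nonempty_Dp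
      refine hg' (hom_eq_zero_of_spans hs g' fun e => ?_)
      refine res_injective (le_top : Dp 0 ≤ ⊤) ((?_ : _ = (0 : Γ(O r k d, Dp 0))).trans (map_zero _).symm)
      rw [hσ e, globalSec_res (hχ e) 0]
      rw [show ratio (polyGrading r k) (Xh 0) (hχ e) = 0 from
        deh_bijective.1 ((deh_ratio _).trans ((hz e).trans (map_zero _).symm)), zero_smul]
    · obtain ⟨c, hc, rfl⟩ := Finset.mem_image.1 hv
      have hc0 : ∑ e, c e • rs s e (Dp 0) = 0 := (hG ▸ Submodule.subset_span hc : c ∈ LinearMap.ker π₀)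
      have h1 := congrArg (g'.app (Dp 0)) hc0
      rw [map_zero, map_sum] at h1
      have h2 := congrArg ((O r k d).presheaf.map (homOfLE (Dp_le_preimage p)).op) h1
      rw [map_zero] at h2
      refine (Eq.trans ?_ (congrArg deh ((bijective_gd d 0 (le_refl (Dp 0))).1 (a₁ :=
        ∑ e, (member p).appLE (Dp 0) (Dp 0) (Dp_le_preimage p) (c e) * ratio (polyGrading r k) (Xh 0) (hχ e))
        (a₂ := 0) ?_))).trans (map_zero _)
      · rw [map_sum]
        exact Finset.sum_congr rfl fun e _ => by rw [map_mul, deh_appLE, deh_ratio]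
      · refine Eq.trans ?_ (h2.trans (zero_smul _ _).symm)
        dsimp only
        rw [H10Coh.mres_self, Finset.sum_smul]
        erw [map_sum]
        refine Finset.sum_congr rfl fun e _ => ?_
        rw [Scheme.Modules.Hom.app_smul, app_rs, mul_smul, ← globalSec_res (hχ e) 0, ← hσ e]
        symm
        refine (Scheme.Modules.map_smul (O r k d) _ _ _).trans ?_
        refine congrArg₂ (· • ·) ?_ (H10Coh.mres_mres (O r k d) _ (Dp_le_preimage p) _)
        exact (congr($(Scheme.Hom.appLE_map (member p) (le_refl _) (homOfLE (Dp_le_preimage p)).op) (c e))).symm.trans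
          rfl |>.symm
  have hφ' : ∀ v ∈ Rel, ∑ e, tau (v e) * φ e = 0 := fun v hv => by
    have hmem : (fun e => Φ.symm (v e)) ∈ Submodule.span Γ(P, Dp 0) (G : Set (N → Γ(P, Dp 0))) := hG.symm ▸ hv
    suffices h : ∀ c ∈ Submodule.span Γ(P, Dp 0) (G : Set (N → Γ(P, Dp 0))), ∑ e, tau (Φ (c e)) * φ e = 0 by
      simpa using h _ hmem
    intro c hc
    induction hc using Submodule.span_induction with
    | mem y hy => exact hφ _ (Finset.mem_image_of_mem _ hy)
    | zero => simp
    | add y z _ _ hy hz => simp [add_mul, Finset.sum_add_distrib, hy, hz]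
    | smul a y _ hy => simp [mul_assoc, ← Finset.mul_sum, hy]
  obtain ⟨η, ⟨e₀, he₀⟩, hη, hηd⟩ := exists_constant_functional W Rel hr hWalt hplu' hfun hunit hφ' hφ0 hφd hab.2
    (hab.1.symm ▸ hd)
  choose T hT hTη using fun e => exists_dh_eq (hηd e)
  let t : N → Γ(O (r + q) k d, ⊤) := fun e => globalSec (polyGrading (r + q) k) (hT e)
  obtain ⟨g, hg⟩ := exists_hom_of_spans hs t fun V hV a ha => by
    refine H29Ref.sec_ext (O (r + q) k d) fun x hx => ?_
    haveI : Nonempty ↑(V ⊓ Dp (k := k) (n := r + q) 0) := by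
      obtain ⟨z, hz⟩ := nonempty_Dp (k := k) (n := r + q)
      obtain ⟨y, hy⟩ := nonempty_preirreducible_inter V.isOpen (Dp (k := k) (n := r + q) 0).isOpen ⟨x, hx⟩
        ⟨z, hz⟩
      exact ⟨⟨y, hy⟩⟩
    refine congrArg _ (res_injective (inf_le_left : V ⊓ Dp 0 ≤ V) ((?_ : _ = (0 : Γ(O (r + q) k d, V ⊓ Dp 0))).trans
      (map_zero _).symm))
    rw [map_sum]
    let A := V ⊓ Dp (k := k) (n := r + q) 0
    let ρ : B k r q →+* Γ(P, A) :=
      ((P).presheaf.map (homOfLE (inf_le_right : A ≤ Dp 0)).op).hom.comp Φ.symm.toRingHom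
    let aA : N → Γ(P, A) := fun e => (P).presheaf.map (homOfLE (inf_le_left : A ≤ V)).op (a e)
    have hρ : ∀ {D' : ℕ} {f : MvPolynomial (Fin (r + q + 1)) k} (hf : f ∈ polyGrading (r + q) k D'),
        rR hf 0 (inf_le_right : A ≤ Dp 0) = ρ (dh f) := fun {D' f} hf => by
      rw [← coordEquiv_ratio hf]
      exact congrArg _ (Φ.symm_apply_apply _).symm
    have hj : ∀ j, ∑ e, aA e * ρ (W j e) = 0 := fun j => by
      have := hrel V a ha 0 A inf_le_left inf_le_right j
      simpa only [hρ] using this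
    have key : ∑ e, aA e * ρ (η e) = 0 := by
      obtain ⟨u, hu⟩ := hunit
      have hp : ∀ a b e, W a b * η e + W b e * η a + W e a * η b = 0 := fun a b e => by
        rw [← sum_plucker]
        exact hη _ (hplu' a b e)
      have he : ∀ e, η e = ∑ a, ∑ b, (-(u a b * η a) * W b e + u a b * η b * W a e) := fun e => by
        conv_lhs => rw [← one_mul (η e), ← hu]
        simp only [Finset.sum_mul]
        refine Finset.sum_congr rfl fun a _ => Finset.sum_congr rfl fun b _ => ?_
        linear_combination u a b * hp a b e - u a b * η b * hWalt a e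
      have he' : ∀ e, aA e * ρ (η e) = ∑ a, ∑ b,
          (ρ (-(u a b * η a)) * (aA e * ρ (W b e)) + ρ (u a b * η b) * (aA e * ρ (W a e))) := fun e => by
        rw [he e, map_sum, Finset.mul_sum]
        refine Finset.sum_congr rfl fun a _ => ?_
        rw [map_sum, Finset.mul_sum]
        refine Finset.sum_congr rfl fun b _ => ?_
        rw [map_add, map_mul, map_mul ρ _ (W a e)]
        ring
      rw [Finset.sum_congr rfl fun e _ => he' e, Finset.sum_comm]
      refine Finset.sum_eq_zero fun a _ => ?_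
      rw [Finset.sum_comm]
      refine Finset.sum_eq_zero fun b _ => ?_
      rw [Finset.sum_add_distrib, ← Finset.mul_sum, ← Finset.mul_sum, hj, hj, mul_zero, mul_zero, add_zero]
    have hterm : ∀ e, (O (r + q) k d).presheaf.map (homOfLE (inf_le_left : A ≤ V)).op (a e • rs t e V) =
        (aA e * ρ (η e)) • (O (r + q) k d).presheaf.map (homOfLE (inf_le_right : A ≤ Dp 0)).op (gd d 0) := fun e => by
      rw [Scheme.Modules.map_smul, rs_res, rs, rs_globalSec (hT e) 0 (inf_le_right : A ≤ Dp 0), hρ, hTη, ← mul_smul]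
    rw [Finset.sum_congr rfl fun e _ => hterm e, ← Finset.sum_smul, key, zero_smul]
  refine he₀ ?_
  have h0 : t e₀ = 0 := by rw [← hg e₀, hhom g]; rfl
  have h1 := congrArg ((O (r + q) k d).presheaf.map (homOfLE (le_top : Dp 0 ≤ ⊤)).op) h0
  rw [map_zero, globalSec_res (hT e₀) 0] at h1
  have h2 : ratio (polyGrading (r + q) k) (Xh 0) (hT e₀) = 0 :=
    (bijective_gd d 0 (le_refl (Dp 0))).1 (a₂ := 0) (by simpa [H10Coh.mres_self] using h1)
  rw [← hTη e₀, ← coordEquiv_ratio (hT e₀), h2, map_zero]

end Groth.Agent.H02CA.GM
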