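import Groth.Agent.H02CA.GM.PlaneOne
import Groth.Agent.H02CA.Euler.Restrict
import Groth.Agent.H02CA.Euler.EndTwist
import Groth.Agent.H02CA.Tango.Stalk
import Groth.Agent.H29CurveVan.GloballyGen
import Groth.Agent.H3Cyc.SFilt
import Groth.Agent.H29RR.Twist
import Groth.Agent.H29RR.Clifford
import Groth.Agent.LeadPic.PnPic

/-!
The shape of rank two bundles of type `(0, -1)` without sections.
-/

set_option autoImplicit false
set_option linter.style.haveILetI false
set_option backward.isDefEq.respectTransparency false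
set_option maxHeartbeats 1600000
universe u

open CategoryTheory CategoryTheory.Limits AlgebraicGeometry TopologicalSpace Opposite
open Groth.Agent Groth.Agent.H10Coh.Pn

namespace Groth.Agent.H02CA.GM

attribute [local instance 10000] H10Coh.hasSheafifyAb H10Coh.hasWeakSheafifyAb H10Coh.hasExtAb H10Coh.enoughInjAb
attribute [local instance] H29RR.PnPic.overSpec

open H22Alg

variable {k : Type u} [Field k]

local notation "P2" => CohB1.ProjSpace 2 k
local notation "O(" d ")" => Twist.twistProjSpace 2 k d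

/-- The column of coordinates. -/
noncomputable def coordCol (k : Type u) [Field k] : Od 2 k (-1) ⟶ ∐ fun _ : Fin 3 => Od 2 k 0 :=
  ∑ j : Fin 3, Euler.mulX j (-1) 0 rfl ≫ Sigma.ι (fun _ : Fin 3 => Od 2 k 0) j

/-- A map with cokernel having no maps to the structure sheaf comes from a basis of forms. -/
theorem nonempty_iso_coker {F : (Proj (Gr 2 k)).Modules} (v : Od 2 k (-1) ⟶ ∐ fun _ : Fin 3 => Od 2 k 0)
    (φ : (∐ fun _ : Fin 3 => Od 2 k 0) ⟶ F) (w : v ≫ φ = 0) (hS : (ShortComplex.mk v φ w).ShortExact)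
    (hno : NoHom F (Od 2 k 0)) : Nonempty (F ≅ cokernel (coordCol k)) := by
  let g := Coh.toGlobal (toS 2 k)
  let L := Od 2 k 0
  choose c hc using fun l : Fin 3 => Euler.exists_linForm (v ≫ Euler.proj (fun _ : Fin 3 => L) l)
  let A : (Fin 3 → k) →ₗ[k] (Fin 3 → k) := Fintype.linearCombination k fun j l => c l j
  have hv : v = coordCol k ≫ Euler.mat g L A := by
    calc v = v ≫ 𝟙 _ := (Category.comp_id v).symm
      _ = ∑ l, (v ≫ Euler.proj (fun _ : Fin 3 => L) l) ≫ Sigma.ι (fun _ : Fin 3 => L) l := by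
          rw [← Euler.sum_proj_ι, Preadditive.comp_sum]
          exact Finset.sum_congr rfl fun l _ => (Category.assoc _ _ _).symm
      _ = ∑ l, ∑ j, Euler.mulX j (-1) 0 rfl ≫ Formal.smulModΓ L (g (c l j)) ≫ Sigma.ι (fun _ : Fin 3 => L) l := by
          refine Finset.sum_congr rfl fun l _ => ?_
          rw [hc l, Preadditive.sum_comp]
          refine Finset.sum_congr rfl fun j _ => ?_
          rw [Euler.smulModΓ_natural, Category.assoc]
      _ = ∑ j, Euler.mulX j (-1) 0 rfl ≫ ∑ l, Formal.smulModΓ L (g (c l j)) ≫ Sigma.ι (fun _ : Fin 3 => L) l := by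
          rw [Finset.sum_comm]
          simp only [Preadditive.comp_sum]
      _ = _ := by
          rw [coordCol, Preadditive.sum_comp]
          refine Finset.sum_congr rfl fun j _ => ?_
          rw [Category.assoc, Euler.ι_mat]
          refine congrArg (_ ≫ ·) (Finset.sum_congr rfl fun l _ => ?_)
          simp [A, g, L, Fintype.linearCombination_apply_single]
  have hsurj : Function.Surjective A := by
    rw [← LinearMap.range_eq_top]
    by_contra hne
    obtain ⟨ψ, hψ0, hψ⟩ := Submodule.exists_le_ker_of_lt_top _ (lt_top_iff_ne_top.2 hne)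
    let R : (Fin 3 → k) →ₗ[k] (Fin 1 → k) := LinearMap.pi fun _ => ψ
    obtain ⟨x₀, hx₀⟩ : ∃ x₀, ψ x₀ ≠ 0 := by
      by_contra hc
      push Not at hc
      exact hψ0 (LinearMap.ext hc)
    let B : (Fin 1 → k) →ₗ[k] (Fin 3 → k) := (LinearMap.proj (R := k) (φ := fun _ : Fin 1 => k) 0).smulRight ((ψ x₀)⁻¹ • x₀)
    have hRB : R ∘ₗ B = LinearMap.id := LinearMap.ext fun y => funext fun i => by
      obtain rfl : i = 0 := Subsingleton.elim _ _
      simp [R, B, hx₀]
    have hRA : R ∘ₗ A = 0 := LinearMap.ext fun y => funext fun _ => hψ ⟨y, rfl⟩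
    have h0 : v ≫ Euler.mat g L R = 0 := by
      rw [hv, Category.assoc, Euler.mat_comp, hRA, Euler.mat_zero, comp_zero]
    let r := hS.gIsCokernel.desc (CokernelCofork.ofπ (Euler.mat g L R) h0)
    have hr : φ ≫ r = Euler.mat g L R := hS.gIsCokernel.fac _ WalkingParallelPair.one
    have hr0 : r = 0 := by
      let e : (∐ fun _ : Fin 1 => L) ⟶ L := Euler.proj (fun _ : Fin 1 => L) 0
      haveI : IsIso e := ⟨Sigma.ι (fun _ : Fin 1 => L) 0, by
        rw [← Euler.sum_proj_ι (fun _ : Fin 1 => L), Fin.sum_univ_one], by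
        rw [Euler.ι_proj, dif_pos rfl]; rfl⟩
      rw [← cancel_mono e, zero_comp]
      exact hno _
    have h1 : Euler.mat g L B ≫ Euler.mat g L R = 𝟙 (∐ fun _ : Fin 1 => L) := by
      rw [Euler.mat_comp, hRB, Euler.mat_id]
    rw [← hr, hr0, comp_zero, comp_zero] at h1
    have h2 : ¬ NoHom L L := fun h => absurd ((noHom_od_od (n := 2) (k := k) two_ne_zero 0 0).1 h) (lt_irrefl _)
    refine h2 fun f => ?_
    rw [← Category.id_comp f, show 𝟙 L = Sigma.ι (fun _ : Fin 1 => L) 0 ≫ 𝟙 _ ≫ Euler.proj (fun _ : Fin 1 => L) 0 by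
      rw [Category.id_comp, Euler.ι_proj, dif_pos rfl]; rfl, ← h1]
    simp
  have hinj : Function.Injective A := LinearMap.injective_iff_surjective.2 hsurj
  let AE := LinearEquiv.ofBijective A ⟨hinj, hsurj⟩
  let eA : (∐ fun _ : Fin 3 => L) ≅ ∐ fun _ : Fin 3 => L :=
    { hom := Euler.mat g L A
      inv := Euler.mat g L AE.symm.toLinearMap
      hom_inv_id := by
        rw [Euler.mat_comp, show AE.symm.toLinearMap ∘ₗ A = LinearMap.id from LinearMap.ext AE.symm_apply_apply,
          Euler.mat_id]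
      inv_hom_id := by
        rw [Euler.mat_comp, show A ∘ₗ AE.symm.toLinearMap = LinearMap.id from LinearMap.ext AE.apply_symm_apply,
          Euler.mat_id] }
  exact ⟨(IsColimit.coconePointUniqueUpToIso hS.gIsCokernel (cokernelIsCokernel v)) ≪≫
    cokernel.mapIso v (coordCol k) (Iso.refl _) eA.symm (by
      show v ≫ Euler.mat g L AE.symm.toLinearMap = 𝟙 _ ≫ coordCol k
      rw [hv, Category.assoc, Category.id_comp]
      exact (congrArg (coordCol k ≫ ·) eA.hom_inv_id).trans (Category.comp_id _))⟩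

section Abstract

variable {X : Scheme.{u}} [X.Over (Spec (CommRingCat.of k))]

/-- Generators of a globally generated module from a basis of its sections. -/
theorem exists_epi_basis [IsNoetherian X] {A F : X.Modules} (z : A ≅ Coh.structureModule X) (hF : Coh.IsCoh F)
    (hgg : Curv2.IsGloballyGenerated F) {r : ℕ} (b : Module.Basis (Fin r) k (Coh.HH X F 0)) :
    ∃ φ : (∐ fun _ : Fin r => A) ⟶ F, Epi φ ∧ Function.Surjective (Canon.HHlin k φ 0) := by
  let M : X.Modules := ∐ fun _ : Fin r => A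
  let φ : M ⟶ F := Sigma.desc fun i => z.hom ≫ H11Tilde.homOfGlobal F (H29RR.sec F (b i))
  have hsur : Function.Surjective (Canon.HHlin k φ 0) := by
    rw [← LinearMap.range_eq_top, eq_top_iff, ← b.span_eq, Submodule.span_le]
    rintro _ ⟨i, rfl⟩
    obtain ⟨u, hu⟩ := (H29RR.sec (Coh.structureModule X)).surjective (1 : Γ(X, ⊤))
    refine ⟨Canon.HHlin k (z.inv ≫ Sigma.ι (fun _ : Fin r => A) i) 0 u, ?_⟩
    rw [← H29RR.hhlin_comp, Category.assoc, Sigma.ι_desc, z.inv_hom_id_assoc]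
    refine (H29RR.sec F).injective ((H29RR.sec_natural _ u).trans ?_)
    rw [hu]
    simp [H11Tilde.homOfGlobal_app]
  refine ⟨φ, ?_, hsur⟩
  obtain ⟨N, ψ, hψ⟩ := H29CurveVan.exists_epi_freeMod hF hgg
  have : ∀ t : Coh.structureModule X ⟶ F, ∃ τ : Coh.structureModule X ⟶ M, τ ≫ φ = t := fun t => by
    obtain ⟨x, hx⟩ := hsur ((H29RR.sec F).symm (t.app ⊤ (1 : Γ(X, ⊤))))
    refine ⟨H11Tilde.homOfGlobal M (H29RR.sec M x), ?_⟩
    rw [VBPn.eq_homOfGlobal (_ ≫ φ), VBPn.eq_homOfGlobal t]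
    refine congrArg (H11Tilde.homOfGlobal F) ?_
    have h := congrArg (H29RR.sec F) hx
    rw [H29RR.sec_natural, AddEquiv.apply_symm_apply] at h
    refine Eq.trans ?_ h
    show φ.app ⊤ ((H11Tilde.homOfGlobal M (H29RR.sec M x)).app ⊤ (1 : Γ(X, ⊤))) = _
    simp [H11Tilde.homOfGlobal_app]
  choose τ hτ using fun l : Fin N => this (Sigma.ι (fun _ : Fin N => Coh.structureModule X) l ≫ ψ)
  haveI : Epi (Sigma.desc τ ≫ φ) := by
    rw [show Sigma.desc τ ≫ φ = ψ from Sigma.hom_ext _ _ fun l => by rw [Sigma.ι_desc_assoc, hτ]]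
    exact hψ
  exact epi_of_epi (Sigma.desc τ) φ

omit [X.Over (Spec (CommRingCat.of k))] in
/-- The kernel of a surjection of ranks three onto two is invertible. -/
theorem isInvertible_kernel_three_two [IsIntegral X] [IsNoetherian X] {M F : X.Modules} (hM : FlatMod.IsFinLocFreeOfRank 3 M)
    (hF : FlatMod.IsFinLocFreeOfRank 2 F) (φ : M ⟶ F) [Epi φ] : PicF.IsInvertible (kernel φ) := by
  have hMf := H22Alg.KPullLam.finLocFree_of_rank hM
  have hFf := H22Alg.KPullLam.finLocFree_of_rank hF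
  have hKf : FlatMod.IsFinLocFree (kernel φ) := H10Coh.Tw.isFinLocFree_kernel φ hMf hFf
  have hS : (ShortComplex.mk (kernel.ι φ) φ (kernel.condition φ)).ShortExact :=
    { exact := ShortComplex.exact_of_f_is_kernel _ (kernelIsKernel φ) }
  refine H22Alg.KExists.isInvertible_of_rank_one (H3Cyc.Filt.ofRank_of_rk hKf fun x => ?_)
  have h : H22Alg.KExists.rk x M = H22Alg.KExists.rk x (kernel φ) + H22Alg.KExists.rk x F :=
    H22Alg.KExists.rk_add hS hKf hFf x
  rw [H22Alg.KExists.rk_of_rank hM, H22Alg.KExists.rk_of_rank hF] at h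
  omega

/-- A bijection on sections leaves none to the first term. -/
theorem subsingleton_X₁_of_surjective {S : ShortComplex X.Modules} (hS : S.ShortExact)
    [Module.Finite k (Coh.HH X S.X₂ 0)] [Module.Finite k (Coh.HH X S.X₃ 0)]
    (h : Module.finrank k (Coh.HH X S.X₂ 0) = Module.finrank k (Coh.HH X S.X₃ 0))
    (hs : Function.Surjective (Canon.HHlin k S.g 0)) : Subsingleton (Coh.HH X S.X₁ 0) := by
  haveI := hS.mono_f
  have hinj := (LinearMap.injective_iff_surjective_of_finrank_eq_finrank h).2 hs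
  refine subsingleton_of_forall_eq 0 fun x => H29RR.hhlin_zero_injective (k := k) S.f (hinj ?_)
  rw [← H29RR.hhlin_comp, S.zero, H29RR.hhlin_zero, map_zero, map_zero]

/-- More sections in the middle than at the right. -/
theorem finrank_le_of_subsingleton_X₁ {S : ShortComplex X.Modules} (hS : S.ShortExact)
    [Module.Finite k (Coh.HH X S.X₃ 0)] [Subsingleton (Coh.HH X S.X₁ 0)] :
    Module.finrank k (Coh.HH X S.X₂ 0) ≤ Module.finrank k (Coh.HH X S.X₃ 0) := by
  refine LinearMap.finrank_le_finrank_of_injective (f := H10Coh.Hyper.Hmₗ (F := k) S.g 0) ?_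
  rw [← LinearMap.ker_eq_bot, H10Coh.Hyper.ker_Hmₗ hS 0, LinearMap.range_eq_bot]
  exact LinearMap.ext fun x => by rw [Subsingleton.elim x 0, map_zero, map_zero]

/-- The kernel has sections after twisting when dimensions force it. -/
theorem not_subsingleton_kernel_twist {M F L : X.Modules} (φ : M ⟶ F) [Epi φ] (hL : PicF.IsInvertible L)
    (hfin : Module.Finite k (Coh.HH X (CohB1.tensorMod F L) 0))
    (h : Module.finrank k (Coh.HH X (CohB1.tensorMod F L) 0) < Module.finrank k (Coh.HH X (CohB1.tensorMod M L) 0)) :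
    ¬ Subsingleton (Coh.HH X (CohB1.tensorMod (kernel φ) L) 0) := fun hX1 => by
  have hS : (ShortComplex.mk (kernel.ι φ) φ (kernel.condition φ)).ShortExact :=
    { exact := ShortComplex.exact_of_f_is_kernel _ (kernelIsKernel φ) }
  have hS' := H10Coh.Tw.shortExact_seq hS hL
  haveI : Module.Finite k (Coh.HH X (H10Coh.Tw.seq (ShortComplex.mk (kernel.ι φ) φ (kernel.condition φ)) hL).X₃ 0) := hfin
  haveI : Subsingleton (Coh.HH X (H10Coh.Tw.seq (ShortComplex.mk (kernel.ι φ) φ (kernel.condition φ)) hL).X₁ 0) := hX1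
  exact absurd (finrank_le_of_subsingleton_X₁ (k := k) hS') (not_le.2 h)

omit [X.Over (Spec (CommRingCat.of k))] in
/-- A resolution from an isomorphism with the kernel. -/
theorem exists_resolution_of_iso {A M F : X.Modules} (φ : M ⟶ F) [Epi φ] (e : A ≅ kernel φ) :
    ∃ (v : A ⟶ M) (φ' : M ⟶ F) (w : v ≫ φ' = 0), (ShortComplex.mk v φ' w).ShortExact := by
  have hS : (ShortComplex.mk (kernel.ι φ) φ (kernel.condition φ)).ShortExact :=
    { exact := ShortComplex.exact_of_f_is_kernel _ (kernelIsKernel φ) }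
  exact ⟨e.hom ≫ kernel.ι φ, φ, by rw [Category.assoc, kernel.condition, comp_zero],
    ShortComplex.shortExact_of_iso
      (ShortComplex.isoMk (S₁ := ShortComplex.mk (kernel.ι φ) φ (kernel.condition φ)) e.symm (Iso.refl _) (Iso.refl _)
        (by simp) (by simp)) hS⟩

end Abstract

theorem finrank_h0_three (d : ℕ) :
    Module.finrank k (Coh.HH P2 (∐ fun _ : Fin 3 => O((d : ℤ))) 0) = 3 * (d + 2).choose 2 ∧
      Module.Finite k (Coh.HH P2 (∐ fun _ : Fin 3 => O((d : ℤ))) 0) := by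
  obtain ⟨h1, h2⟩ := H29RR.PnPic.finrank_h0_sum (k := k) (n := 2) two_ne_zero fun _ : Fin 3 => (d : ℤ)
  refine ⟨?_, h2⟩
  rw [h1, Fin.sum_univ_three, finrank_h0_nat']
  omega

theorem finrank_h0_twist_one {M : (P2).Modules} (eM : M ≅ ∐ fun _ : Fin 3 => O(((0 : ℕ) : ℤ))) :
    Module.finrank k (Coh.HH P2 (CohB1.tensorMod M O(1)) 0) = 9 := by
  obtain ⟨w⟩ := H29RR.PnPic.nonempty_tensor_sum (n := 2) (k := k) (fun _ : Fin 3 => ((0 : ℕ) : ℤ)) 1
  have h1 := (H29RR.hhIso (k := k) (PicGrp.tensorModIso eM (Iso.refl O(1)) ≪≫ w) 0).finrank_eq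
  rw [h1, (H29RR.PnPic.finrank_h0_sum (k := k) two_ne_zero _).1, Fin.sum_univ_three,
    show ((0 : ℕ) : ℤ) + 1 = ((1 : ℕ) : ℤ) by norm_num, finrank_h0_nat']
  decide

/-- The only possible twist of the kernel. -/
theorem eq_neg_one {F : (P2).Modules} (hFf : FlatMod.IsFinLocFree F) {M : (P2).Modules}
    (eM : M ≅ ∐ fun _ : Fin 3 => O(((0 : ℕ) : ℤ))) (φ : M ⟶ F) [Epi φ]
    (hs : Function.Surjective (Canon.HHlin k φ 0)) (h3 : Module.finrank k (Coh.HH P2 F 0) = 3)
    (h8 : Module.finrank k (Coh.HH P2 (CohB1.tensorMod F O(1)) 0) = 8) {m : ℤ} (i : kernel φ ≅ O(m)) : m = -1 := by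
  have hT := H10Coh.Stab.isTwistFamily_projSpace 2 k
  obtain ⟨hM3, hMfin⟩ := finrank_h0_three (k := k) 0
  haveI := hMfin
  haveI : Module.Finite k (Coh.HH P2 M 0) := Module.Finite.equiv (H29RR.hhIso (k := k) eM 0).symm
  haveI : Module.Finite k (Coh.HH P2 F 0) := Module.finite_of_finrank_eq_succ h3
  have hS : (ShortComplex.mk (kernel.ι φ) φ (kernel.condition φ)).ShortExact :=
    { exact := ShortComplex.exact_of_f_is_kernel _ (kernelIsKernel φ) }
  have hK0 : Subsingleton (Coh.HH P2 (kernel φ) 0) :=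
    subsingleton_X₁_of_surjective hS
      (((H29RR.hhIso (k := k) eM 0).finrank_eq.trans hM3).trans h3.symm) hs
  have hm0 : m < 0 := by
    by_contra hc
    haveI := H10Coh.subsingleton_HH_of_iso i 0 hK0
    haveI := H29RR.PnPic.nontrivial_h0_nonneg (k := k) (n := 2) (show 0 ≤ m by omega)
    exact not_subsingleton (Coh.HH P2 O(m) 0) inferInstance
  by_contra hm
  obtain ⟨t⟩ := hT.add m 1
  refine not_subsingleton_kernel_twist (k := k) φ (hT.inv 1) (finite_twist hFf 1 0) ?_
    (H10Coh.subsingleton_HH_of_iso (PicGrp.tensorModIso i (Iso.refl _) ≪≫ t).symm 0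
      (H29RR.PnPic.subsingleton_h0_neg (k := k) two_ne_zero (by omega)))
  rw [h8, finrank_h0_twist_one eM]
  omega

/-- The resolution of the twist. -/
theorem exists_resolution [IsAlgClosed k] {G : (P2).Modules} (hG2 : FlatMod.IsFinLocFreeOfRank 2 G)
    (h : UType G 1) (h0 : hh 2 0 G 0 = 0) :
    ∃ (v : Od 2 k (-1) ⟶ ∐ fun _ : Fin 3 => Od 2 k 0)
      (φ : (∐ fun _ : Fin 3 => Od 2 k 0) ⟶ CohB1.tensorMod G O(1)) (w : v ≫ φ = 0),
      (ShortComplex.mk v φ w).ShortExact := by
  haveI : IsProper (P2 ↘ Spec (CommRingCat.of k)) := H27Weil.isProper_toSpec 2 k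
  haveI := H29RR.isNoetherian_of_proper (k := k) (X := P2)
  haveI : IsNoetherian (Proj (Gr 2 k)) := CMHyper.noetherian k 2
  haveI : IsIntegral P2 := LeadPic.PnRel.isIntegral_projSpace (n := 2) k
  haveI : IsIntegral (Proj (Gr 2 k)) := LeadPic.PnRel.isIntegral_projSpace (n := 2) k
  haveI : CompactSpace P2 := H11Ample.compactSpace_projSpace 2 k
  haveI : QuasiSeparatedSpace P2 := quasiSeparatedSpace_of_quasiSeparated (P2 ↘ Spec (CommRingCat.of k))
  have hG : FlatMod.IsFinLocFree G := H22Alg.KPullLam.finLocFree_of_rank hG2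
  have hT := H10Coh.Stab.isTwistFamily_projSpace 2 k
  obtain ⟨h1, h2, hreg⟩ := h.one_facts hG h0
  have hgg : Curv2.IsGloballyGenerated (CohB1.tensorMod G O(1)) :=
    CMField.isGloballyGenerated (CMField.setup k 2) (H11Ample.isAmple_twistProjSpace 2 k)
      (H10Coh.Tw.isCoh_of_vb hG) hreg
  have hF2 : FlatMod.IsFinLocFreeOfRank 2 (CohB1.tensorMod G O(1)) := H29RR.rank_tensor hG2 (hT.inv 1)
  have hFf := H22Alg.KPullLam.finLocFree_of_rank hF2
  obtain ⟨z⟩ := hT.zero
  let A : (P2).Modules := Od 2 k 0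
  let z' : A ≅ Coh.structureModule P2 := eqToIso (H17.PnExt.od_eq 2 k 0).symm ≪≫ z
  haveI : Module.Finite k (Coh.HH P2 (CohB1.tensorMod G O(1)) 0) := finite_twist hG 1 0
  obtain ⟨φ, hφ, hsur⟩ := exists_epi_basis (k := k) (X := P2) (A := A) z' (H10Coh.Tw.isCoh_of_vb hFf) hgg
    (Module.finBasisOfFinrankEq k _ h1)
  haveI := hφ
  obtain ⟨m, ⟨i₀⟩⟩ := LeadPic.Pn.exists_iso_twist 2 k
    (isInvertible_kernel_three_two (Tango.isFinLocFreeOfRank_sigma 3 0) hF2 φ)
  obtain ⟨a11⟩ := hT.add 1 1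
  have h8 : Module.finrank k (Coh.HH P2 (CohB1.tensorMod (CohB1.tensorMod G O(1)) O(1)) 0) = 8 :=
    (H29RR.hhIso (k := k) (H10Coh.Tw.assoc G O(1) O(1) ≪≫
      PicGrp.tensorModIso (Iso.refl G) (a11 ≪≫ eqToIso (congrArg _ (by norm_num)))) 0).finrank_eq.trans h2
  obtain rfl : m = -1 := eq_neg_one hFf
    (Sigma.mapIso fun _ : Fin 3 => eqToIso ((H17.PnExt.od_eq 2 k 0).symm.trans (congrArg (fun d => O(d)) Nat.cast_zero.symm)))
    φ hsur h1 h8 (i₀ ≪≫ eqToIso (H17.PnExt.od_eq 2 k m).symm)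
  exact exists_resolution_of_iso φ i₀.symm

/-- Such a bundle is the twisted cokernel of the coordinates. -/
theorem nonempty_iso_coker_of_utype [IsAlgClosed k] {G : (P2).Modules} (hG2 : FlatMod.IsFinLocFreeOfRank 2 G)
    (h : UType G 1) (h0 : hh 2 0 G 0 = 0)
    (hno : NoHom (CohB1.tensorMod G O(1) : (Proj (Gr 2 k)).Modules) (Od 2 k 0)) :
    Nonempty (CohB1.tensorMod G O(1) ≅ cokernel (coordCol k)) := by
  obtain ⟨v, φ, w, hS⟩ := exists_resolution hG2 h h0
  exact nonempty_iso_coker v φ w hS hno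

end Groth.Agent.H02CA.GM
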