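import Groth.Agent.H02CA.GM.Chart
import Groth.Agent.H17.KoszSh.AffHom
import Groth.Agent.H10Coh.FinType
import Groth.Agent.H10Coh.QCohOps
import Groth.Agent.H11Tilde.ModLoc
import Groth.Agent.LeadPic.PnRel

/-!
Modules with finitely many generating global sections; sections of twisting sheaves on dense opens.
-/

set_option autoImplicit false
set_option backward.isDefEq.respectTransparency false
set_option linter.style.haveILetI false

universe u

open CategoryTheory CategoryTheory.Limits AlgebraicGeometry TopologicalSpace Opposite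
open Groth.Agent

noncomputable section

namespace Groth.Agent.H02CA.GM

variable {X : Scheme.{u}} {F : X.Modules} {N : Type u} (s : N → Γ(F, ⊤))

/-- The restrictions of some global sections. -/
abbrev rs (e : N) (V : X.Opens) : Γ(F, V) := F.presheaf.map (homOfLE (le_top : V ≤ ⊤)).op (s e)

/-- The sections span over all affine opens. -/
def Spans : Prop := ∀ V : X.Opens, IsAffineOpen V → Submodule.span Γ(X, V) (Set.range fun e => rs s e V) = ⊤

theorem spans_of_locally [Fintype N] [F.IsQuasicoherent]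
    (h : ∀ (W : X.Opens) (t : Γ(F, W)), ∀ x ∈ W, ∃ (V : X.Opens) (hV : V ≤ W), x ∈ V ∧
      F.presheaf.map (homOfLE hV).op t ∈ Submodule.span Γ(X, V) (Set.range fun e => rs s e V)) :
    Spans s := by
  obtain ⟨a, ha⟩ := H10Coh.exists_free_desc (X := X) (N := F) fun e => H11Tilde.homOfGlobal F (s e)
  have happ : ∀ (e : N) (V : X.Opens), a.app V ((H10Coh.freeIncl N e).app V (H10Coh.oneSec V)) = rs s e V :=
    fun e V => by
      refine (congr($(congrArg (fun f => Scheme.Modules.Hom.app f V) (ha e)) (H10Coh.oneSec V))).trans ?_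
      change (1 : Γ(X, V)) • rs s e V = _
      rw [one_smul]
  haveI : Epi a := H11Tilde.epi_of_locally_surjective a fun W t x hx => by
    obtain ⟨V, hV, hxV, ht⟩ := h W t x hx
    refine ⟨V, hV, hxV, ?_⟩
    generalize F.presheaf.map (homOfLE hV).op t = t' at ht ⊢
    induction ht using Submodule.span_induction with
    | mem y hy =>
      obtain ⟨e, rfl⟩ := hy
      exact ⟨_, happ e V⟩
    | zero => exact ⟨0, map_zero _⟩
    | add y z _ _ hy hz =>
      obtain ⟨y', rfl⟩ := hy; obtain ⟨z', rfl⟩ := hz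
      exact ⟨y' + z', map_add _ _ _⟩
    | smul r y _ hy =>
      obtain ⟨y', rfl⟩ := hy
      exact ⟨r • y', Scheme.Modules.Hom.app_smul _ _ _⟩
  haveI : (H10Coh.freeMod X N).IsQuasicoherent := H10Coh.isQuasicoherent_coproduct' N
  intro V hV
  refine eq_top_iff.2 fun m hm => ?_
  clear hm
  obtain ⟨z, rfl⟩ := H10Coh.surjective_app_of_epi a hV m
  have hz := H10Coh.free_sections_span N V z
  induction hz using Submodule.span_induction with
  | mem x hx =>
    obtain ⟨e, rfl⟩ := hx
    exact Submodule.subset_span ⟨e, (happ e V).symm⟩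
  | zero => rw [map_zero]; exact zero_mem _
  | add x y _ _ hx hy => rw [map_add]; exact add_mem hx hy
  | smul r x _ hx => rw [Scheme.Modules.Hom.app_smul]; exact Submodule.smul_mem _ _ hx

variable {s}

theorem rs_res (e : N) {V W : X.Opens} (h : W ≤ V) : F.presheaf.map (homOfLE h).op (rs s e V) = rs s e W :=
  H10Coh.mres_mres F _ h (s e)

theorem app_rs {G : X.Modules} (φ : F ⟶ G) (e : N) (V : X.Opens) :
    φ.app V (rs s e V) = G.presheaf.map (homOfLE (le_top : V ≤ ⊤)).op (φ.app ⊤ (s e)) :=
  H11Tilde.app_map_apply φ _ _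

/-- Maps killing generators vanish. -/
theorem hom_eq_zero_of_spans (hs : Spans s) {G : X.Modules} (φ : F ⟶ G) (h : ∀ e, φ.app ⊤ (s e) = 0) : φ = 0 := by
  refine H17.AffHom.hom_ext fun U v => ?_
  have hv : v ∈ Submodule.span Γ(X, U.1) (Set.range fun e => rs s e U.1) := (hs U.1 U.2).symm ▸ trivial
  induction hv using Submodule.span_induction with
  | mem y hy =>
    obtain ⟨e, rfl⟩ := hy
    exact (app_rs φ e U.1).trans (by rw [h e, map_zero]; rfl)
  | zero => rw [map_zero, map_zero]
  | add y z _ _ hy hz => rw [map_add, map_add, hy, hz]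
  | smul r y _ hy => rw [Scheme.Modules.Hom.app_smul, Scheme.Modules.Hom.app_smul, hy]

/-- Maps out of a module with generators: values at the generators respecting the relations. -/
theorem exists_hom_of_spans [Fintype N] (hs : Spans s) {G : X.Modules} (t : N → Γ(G, ⊤))
    (h : ∀ V : X.Opens, IsAffineOpen V → ∀ a : N → Γ(X, V), ∑ e, a e • rs s e V = 0 → ∑ e, a e • rs t e V = 0) :
    ∃ φ : F ⟶ G, ∀ e, φ.app ⊤ (s e) = t e := by
  classical
  have hex : ∀ (U : X.affineOpens) (v : Γ(F, U.1)), ∃ a : N → Γ(X, U.1), ∑ e, a e • rs s e U.1 = v := fun U v =>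
    (Submodule.mem_span_range_iff_exists_fun _).1 ((hs U.1 U.2).symm ▸ trivial)
  choose c hc using hex
  have huniq : ∀ (U : X.affineOpens) (v : Γ(F, U.1)) (a : N → Γ(X, U.1)), ∑ e, a e • rs s e U.1 = v →
      ∑ e, c U v e • rs t e U.1 = ∑ e, a e • rs t e U.1 := fun U v a ha => by
    refine sub_eq_zero.1 ?_
    rw [← Finset.sum_sub_distrib]
    simp only [← sub_smul]
    refine h U.1 U.2 (fun e => c U v e - a e) ?_
    simp only [sub_smul, Finset.sum_sub_distrib]
    rw [hc, ha, sub_self]
  let f : ∀ U : X.affineOpens, Γ(F, U.1) →ₗ[Γ(X, U.1)] Γ(G, U.1) := fun U =>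
    { toFun := fun v => ∑ e, c U v e • rs t e U.1
      map_add' := fun v w => by
        rw [huniq U (v + w) (fun e => c U v e + c U w e) (by simp only [add_smul, Finset.sum_add_distrib, hc]),
          ← Finset.sum_add_distrib]
        simp only [add_smul]
      map_smul' := fun r v => by
        rw [huniq U (r • v) (fun e => r * c U v e) (by simp only [mul_smul, ← Finset.smul_sum, hc]),
          RingHom.id_apply, Finset.smul_sum]
        simp only [mul_smul] }
  have hf : ∀ (U : X.affineOpens) e, f U (rs s e U.1) = rs t e U.1 := fun U e => by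
    refine (huniq U _ (fun e' => if e' = e then 1 else 0) ?_).trans ?_ <;>
      simp only [ite_smul, one_smul, zero_smul, Finset.sum_ite_eq', Finset.mem_univ, if_true]
  obtain ⟨φ, hφ⟩ := H17.AffHom.exists_hom f fun U V hVU x => by
    show ∑ e, _ • rs t e V.1 = G.presheaf.map (homOfLE hVU).op (∑ e, c U x e • rs t e U.1)
    rw [huniq V _ (fun e => X.presheaf.map (homOfLE hVU).op (c U x e)), map_sum]
    · exact Finset.sum_congr rfl fun e _ => by rw [Scheme.Modules.map_smul, rs_res]
    · conv_rhs => rw [← hc U x, map_sum]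
      exact Finset.sum_congr rfl fun e _ => by rw [Scheme.Modules.map_smul, rs_res]
  refine ⟨φ, fun e => H17.AffHom.eq_of_affine ⊤ fun U i => ?_⟩
  exact (app_rs φ e U.1).symm.trans ((hφ U _).trans (hf U e))

section Proj

open CohB1 (polyGrading)

variable {k : Type u} [Field k] {n : ℕ}

/-- Sections of `O(d)` are determined on a nonempty open. -/
theorem res_injective {d : ℕ} {V A : (Proj (polyGrading n k)).Opens} (h : A ≤ V) [Nonempty A] :
    Function.Injective ((O n k d).presheaf.map (homOfLE h).op) := by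
  haveI : IsIntegral (Proj (polyGrading n k)) := LeadPic.PnRel.isIntegral_projSpace (n := n) k
  refine (injective_iff_map_eq_zero _).2 fun v hv => H17.AffHom.eq_of_affine V fun U i => ?_
  rw [map_zero]
  refine H29Ref.sec_ext (O n k d) fun x hx => ?_
  obtain ⟨j, hj⟩ := H11Ample.exists_mem_basicOpen_X (n := n) (R := k) x
  let V' : (Proj (polyGrading n k)).Opens := U.1 ⊓ Dp j
  have hV' : V' ≤ V := inf_le_left.trans i
  obtain ⟨a, ha⟩ := (bijective_gd d j (inf_le_right : V' ≤ Dp j)).2 ((O n k d).presheaf.map (homOfLE hV').op v)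
  haveI : Nonempty V' := ⟨⟨x, hx, hj⟩⟩
  obtain ⟨⟨z, hz⟩⟩ := ‹Nonempty A›
  haveI : Nonempty ↑(V' ⊓ A) := by
    obtain ⟨y, hy⟩ := nonempty_preirreducible_inter V'.isOpen A.isOpen ⟨x, hx, hj⟩ ⟨z, hz⟩
    exact ⟨⟨y, hy⟩⟩
  have h1 := congrArg ((O n k d).presheaf.map (homOfLE (inf_le_left : V' ⊓ A ≤ V')).op) ha
  rw [Scheme.Modules.map_smul, H10Coh.mres_mres, H10Coh.mres_mres] at h1
  have h0 : (O n k d).presheaf.map (homOfLE (inf_le_left.trans hV' : V' ⊓ A ≤ V)).op v = 0 := by
    rw [← H10Coh.mres_mres (O n k d) h (inf_le_right : V' ⊓ A ≤ A) v, hv, map_zero]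
  rw [h0] at h1
  have h2 := (bijective_gd d j (inf_le_left.trans inf_le_right : V' ⊓ A ≤ Dp j)).1
    (a₁ := (Proj (polyGrading n k)).presheaf.map (homOfLE (inf_le_left : V' ⊓ A ≤ V')).op a) (a₂ := 0)
    (by simpa using h1)
  have h3 : a = 0 := map_injective_of_isIntegral _ (homOfLE (inf_le_left : V' ⊓ A ≤ V')) (h2.trans (map_zero _).symm)
  rw [← TopCat.Presheaf.germ_res_apply (O n k d).presheaf (homOfLE (inf_le_left : V' ≤ U.1)) x ⟨hx, hj⟩,
    map_zero]
  refine (congrArg _ ((H10Coh.mres_mres (O n k d) i inf_le_left v).trans ?_)).trans (map_zero _)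
  rw [← ha, h3]
  exact zero_smul _ _

end Proj

end Groth.Agent.H02CA.GM
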