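import Groth.Agent.H02CA.VBPn.Pencil
import Groth.Agent.H02CA.VBPn.Split
import Groth.Agent.H28Int.Push
import Groth.Agent.H10Coh.Pn.Hyper

/-!
Dimensions of cohomology along a hyperplane.
-/

set_option autoImplicit false
set_option linter.style.haveILetI false
set_option backward.isDefEq.respectTransparency false
set_option maxHeartbeats 1600000
universe u

open CategoryTheory CategoryTheory.Limits AlgebraicGeometry TopologicalSpace Opposite
open Groth.Agent Groth.Agent.H11Tilde

namespace Groth.Agent.H02CA.GM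

attribute [local instance 10000] H10Coh.hasSheafifyAb H10Coh.hasWeakSheafifyAb H10Coh.hasExtAb H10Coh.enoughInjAb

open H22Alg

variable {k : Type u} [Field k]

/-- The restriction sequence, with the dimensions of the cohomology of its last term. -/
theorem mul_dim_gen {X Z : Scheme.{u}} [X.Over (Spec (CommRingCat.of k))] [Z.Over (Spec (CommRingCat.of k))]
    [IsLocallyNoetherian X] [IsLocallyNoetherian Z] (e : Z ⟶ X)
    [IsClosedImmersion e] (he : e ≫ (X ↘ Spec (CommRingCat.of k)) = Z ↘ Spec (CommRingCat.of k))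
    {L : X.Modules} (s : Coh.structureModule X ⟶ L) [Mono s] (hL : PicF.IsInvertible L)
    (hker : PicF2.zeroScheme L s = e.ker) {F G : X.Modules} (hF : FlatMod.IsFinLocFree F)
    (e2 : CohB1.tensorMod F L ≅ G) {G' : Z.Modules} (eG : (Scheme.Modules.pullback e).obj G ≅ G') :
    (ShortComplex.mk (SectionCut.mul s F) (cokernel.π _) (cokernel.condition _)).ShortExact ∧
      ∀ q : ℕ, Module.finrank k (Coh.HH X (cokernel (SectionCut.mul s F)) q) = Module.finrank k (Coh.HH Z G' q) := by
  haveI : DCoh.HasSheafHom F := H10Coh.SheafHom.hasSheafHom F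
  haveI := H17.PnExt.preservesMonomorphisms_tensor hF
  have hm : Mono (((DCoh.tensorBi (X := X)).obj F).map s) := Functor.map_mono _ s
  haveI : Mono (SectionCut.mul s F) := mono_comp' inferInstance hm
  refine ⟨{ exact := ShortComplex.exact_cokernel _ }, fun q => ?_⟩
  let C := cokernel (SectionCut.mul s F)
  haveI hunit : IsIso ((Scheme.Modules.pullbackPushforwardAdjunction e).unit.app C) :=
    H16Derived.ProjFormula.isIso_unit_of_killed e (SectionCut.killed_cokernel s e hL hker F)
  obtain ⟨e₁⟩ := MumfordStep.nonempty_pull_cokernel e s hL hker F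
  let eR : (Scheme.Modules.pullback e).obj C ≅ G' := e₁ ≪≫ (Scheme.Modules.pullback e).mapIso e2 ≪≫ eG
  haveI hQC : ((Scheme.Modules.pullback e).obj C).IsQuasicoherent :=
    (H17.ConsProp.isCoh_pullback e (H10Coh.isCoh_cokernel _ (H10Coh.Tw.isCoh_of_vb hF).1
      (H11Ample.isCoh_tensor (H10Coh.Tw.isCoh_of_vb hF) hL))).1
  let u : C ≅ (Coh.push e).obj ((Scheme.Modules.pullback e).obj C) := @asIso _ _ _ _ _ hunit
  exact ((H29RR.hhIso (k := k) u q).finrank_eq.trans
    (H28Int.Push.finrank_HH_push k e he ((Scheme.Modules.pullback e).obj C) q)).trans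
      (H29RR.hhIso (k := k) eR q).finrank_eq

/-- The start of the long exact sequence, in dimensions. -/
theorem les_dim {X : Scheme.{u}} [X.Over (Spec (CommRingCat.of k))] {S : ShortComplex X.Modules} (hS : S.ShortExact)
    (h10 : Module.Finite k (Coh.HH X S.X₁ 0)) (h20 : Module.Finite k (Coh.HH X S.X₂ 0))
    (h11 : Module.Finite k (Coh.HH X S.X₁ 1)) (h21 : Module.Finite k (Coh.HH X S.X₂ 1)) :
    Module.finrank k (Coh.HH X S.X₃ 0) + Module.finrank k (LinearMap.range (Canon.HHlin k S.f 1)) +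
        Module.finrank k (Coh.HH X S.X₁ 0) =
      Module.finrank k (Coh.HH X S.X₂ 0) + Module.finrank k (Coh.HH X S.X₁ 1) ∧
    Module.finrank k (LinearMap.range (Canon.HHlin k S.f 1)) ≤ Module.finrank k (Coh.HH X S.X₁ 1) := by
  haveI := h10; haveI := h20; haveI := h11; haveI := h21
  haveI : Mono S.f := hS.mono_f
  haveI : Module.Finite k (Coh.HH X S.X₁ (0 + 1)) := h11
  haveI : Module.Finite k (Coh.HH X S.X₂ (0 + 1)) := h21
  have hinj : Function.Injective (Canon.HHlin k S.f 0) := H29RR.hhlin_zero_injective (k := k) S.f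
  have h0 : Module.finrank k (LinearMap.range (H10Coh.Hyper.Hmₗ (F := k) S.f 0)) =
      Module.finrank k (Coh.HH X S.X₁ 0) :=
    LinearMap.finrank_range_of_inj (f := Canon.HHlin k S.f 0) hinj
  have hd := (H10Coh.Hyper.finrank_X₃ (F := k) hS 0 h0
    (r₂ := Module.finrank k (LinearMap.range (Canon.HHlin k S.f 1))) rfl).2
  have hle1 : Module.finrank k (LinearMap.range (Canon.HHlin k S.f 1)) ≤ Module.finrank k (Coh.HH X S.X₁ 1) :=
    LinearMap.finrank_range_le _
  have hle0 := LinearMap.finrank_le_finrank_of_injective hinj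
  refine ⟨?_, hle1⟩
  have e11 : Module.finrank k (Coh.HH X S.X₁ (0 + 1)) = Module.finrank k (Coh.HH X S.X₁ 1) := rfl
  omega

attribute [local instance] H29RR.PnPic.overSpec

/-- The dimension of the cohomology of a twist. -/
noncomputable abbrev hh (n q : ℕ) (E : (CohB1.ProjSpace n k).Modules) (j : ℤ) : ℕ :=
  Module.finrank k (Coh.HH (CohB1.ProjSpace n k) (CohB1.tensorMod E (Twist.twistProjSpace n k j)) q)

theorem finite_twist {n : ℕ} {E : (CohB1.ProjSpace n k).Modules} (hE : FlatMod.IsFinLocFree E) (j : ℤ) (q : ℕ) :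
    Module.Finite k (Coh.HH (CohB1.ProjSpace n k) (CohB1.tensorMod E (Twist.twistProjSpace n k j)) q) := by
  haveI : IsProper (CohB1.ProjSpace n k ↘ Spec (CommRingCat.of k)) := H27Weil.isProper_toSpec n k
  haveI := H29RR.isNoetherian_of_proper (k := k) (X := CohB1.ProjSpace n k)
  exact H10Coh.finite_HH_proper k _ _ (H11Ample.isCoh_tensor (H10Coh.Tw.isCoh_of_vb hE)
    ((H10Coh.Stab.isTwistFamily_projSpace n k).inv j)) q

theorem hh_eq_zero {n q : ℕ} {E : (CohB1.ProjSpace n k).Modules} {j : ℤ}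
    (h : Subsingleton (Coh.HH (CohB1.ProjSpace n k) (CohB1.tensorMod E (Twist.twistProjSpace n k j)) q)) :
    hh n q E j = 0 := by
  haveI := h
  exact Module.finrank_zero_of_subsingleton

theorem subsingleton_of_hh {n q : ℕ} {E : (CohB1.ProjSpace n k).Modules} (hE : FlatMod.IsFinLocFree E) {j : ℤ}
    (h : hh n q E j = 0) :
    Subsingleton (Coh.HH (CohB1.ProjSpace n k) (CohB1.tensorMod E (Twist.twistProjSpace n k j)) q) := by
  haveI := finite_twist hE j q
  exact Module.finrank_zero_iff.1 h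

variable {n : ℕ}

local notation "P" => CohB1.ProjSpace (n + 1) k
local notation "O(" d ")" => Twist.twistProjSpace (n + 1) k d

/-- Multiplication by the form `a`, on twists. -/
noncomputable abbrev mulHyp (a : Fin (n + 2) → k) (E : (P).Modules) (j : ℤ) :=
  SectionCut.mul (X := P) (L := O(1)) (VBPn.hypSec a) (CohB1.tensorMod E O(j - 1))

/-- The Euler relation along a hyperplane. -/
theorem hyper_dim (a : Fin (n + 2) → k) (p : Fin (n + 2)) (hp : a p ≠ 0) {E : (P).Modules}
    (hE : FlatMod.IsFinLocFree E) (j : ℤ) :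
    hh n 0 ((Scheme.Modules.pullback (HyperplanePn.emb a p)).obj E) j +
        Module.finrank k (LinearMap.range (Canon.HHlin k (mulHyp a E j) 1)) + hh (n + 1) 0 E (j - 1) =
      hh (n + 1) 0 E j + hh (n + 1) 1 E (j - 1) ∧
    Module.finrank k (LinearMap.range (Canon.HHlin k (mulHyp a E j) 1)) ≤ hh (n + 1) 1 E (j - 1) ∧
    Module.finrank k (Coh.HH P (CohB1.tensorMod (CohB1.tensorMod E O(j - 1)) O(1)) 1) = hh (n + 1) 1 E j := by
  haveI := CMHyper.noetherian k (n + 1)
  haveI := CMHyper.noetherian k n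
  haveI : IsProper (P ↘ Spec (CommRingCat.of k)) := H27Weil.isProper_toSpec (n + 1) k
  have hT := H10Coh.Stab.isTwistFamily_projSpace (n + 1) k
  have hT' := H10Coh.Stab.isTwistFamily_projSpace n k
  let e : CohB1.ProjSpace n k ⟶ P := HyperplanePn.emb a p
  haveI : IsClosedImmersion e := HyperplanePn.isClosedImmersion_emb a p
  obtain ⟨-, -, -, ⟨eL⟩⟩ := VBPn.exists_cutting_section a p hp
  obtain ⟨hsm, hker⟩ := VBPn.hypSec_cuts a p hp
  let s : Coh.structureModule P ⟶ O(1) := VBPn.hypSec a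
  haveI : Mono s := hsm
  obtain ⟨t⟩ := hT.add (j - 1) 1
  obtain ⟨τ⟩ := MumfordStep.fam_unique (hT.pullback e) hT' eL j
  let e2 : CohB1.tensorMod (CohB1.tensorMod E O(j - 1)) O(1) ≅ CohB1.tensorMod E O(j) :=
    H10Coh.Tw.assoc E O(j - 1) O(1) ≪≫ PicGrp.tensorModIso (Iso.refl E) (t ≪≫ eqToIso (congrArg _ (sub_add_cancel j 1)))
  have hF := H16Derived.KFlat.Stalk.isFinLocFree_tensor hE (H28Pinch.isFinLocFree_of_isInvertible (hT.inv (j - 1)))
  obtain ⟨hS, h₃⟩ := mul_dim_gen (k := k) e (MumfordStep.emb_toSpec a p) s (hT.inv 1) hker hF e2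
    (((H16Derived.KFlat.Stalk.pullTensorLIso e O(j)).app E) ≪≫ PicGrp.tensorModIso (Iso.refl _) τ)
  have hfin : ∀ q, Module.Finite k (Coh.HH P (CohB1.tensorMod (CohB1.tensorMod E O(j - 1)) O(1)) q) := fun q => by
    haveI := finite_twist hE j q
    exact Module.Finite.equiv (H29RR.hhIso (k := k) e2 q).symm
  obtain ⟨hd, hle⟩ := les_dim (k := k) hS (finite_twist hE (j - 1) 0) (hfin 0) (finite_twist hE (j - 1) 1) (hfin 1)
  refine ⟨?_, hle, (H29RR.hhIso (k := k) e2 1).finrank_eq⟩
  refine (Eq.trans ?_ hd).trans ?_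
  · exact congrArg₂ (· + ·) (congrArg₂ (· + ·) (h₃ 0).symm rfl) rfl
  · exact congrArg₂ (· + ·) (H29RR.hhIso (k := k) e2 0).finrank_eq rfl

/-- Sections grow at most by those of the hyperplane. -/
theorem h0_le (a : Fin (n + 2) → k) (p : Fin (n + 2)) (hp : a p ≠ 0) {E : (P).Modules}
    (hE : FlatMod.IsFinLocFree E) (j : ℤ) :
    hh (n + 1) 0 E j ≤ hh n 0 ((Scheme.Modules.pullback (HyperplanePn.emb a p)).obj E) j + hh (n + 1) 0 E (j - 1) := by
  obtain ⟨h1, h2, -⟩ := hyper_dim a p hp hE j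
  omega

/-- Multiplication is injective on first cohomology when all sections of the hyperplane lift. -/
theorem mul_injective (a : Fin (n + 2) → k) (p : Fin (n + 2)) (hp : a p ≠ 0) {E : (P).Modules}
    (hE : FlatMod.IsFinLocFree E) (j : ℤ)
    (h : hh (n + 1) 0 E j = hh n 0 ((Scheme.Modules.pullback (HyperplanePn.emb a p)).obj E) j + hh (n + 1) 0 E (j - 1)) :
    Function.Injective (Canon.HHlin k (mulHyp a E j) 1) := by
  obtain ⟨h1, h2, -⟩ := hyper_dim a p hp hE j
  haveI := finite_twist hE (j - 1) 1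
  have h3 := (Canon.HHlin k (mulHyp a E j) 1).finrank_range_add_finrank_ker
  have h4 : Module.finrank k (LinearMap.ker (Canon.HHlin k (mulHyp a E j) 1)) = 0 := by
    simp only [hh] at *
    omega
  exact LinearMap.ker_eq_bot.1 (Submodule.finrank_eq_zero.1 h4)

/-- The Euler relation when the hyperplane has no first cohomology. -/
theorem hyper_euler (a : Fin (n + 2) → k) (p : Fin (n + 2)) (hp : a p ≠ 0) {E : (P).Modules}
    (hE : FlatMod.IsFinLocFree E) (j : ℤ)
    (h : Subsingleton (Coh.HH (CohB1.ProjSpace n k)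
      (CohB1.tensorMod ((Scheme.Modules.pullback (HyperplanePn.emb a p)).obj E) (Twist.twistProjSpace n k j)) 1)) :
    hh n 0 ((Scheme.Modules.pullback (HyperplanePn.emb a p)).obj E) j + hh (n + 1) 1 E j + hh (n + 1) 0 E (j - 1) =
      hh (n + 1) 0 E j + hh (n + 1) 1 E (j - 1) := by
  obtain ⟨h1, -, h2⟩ := hyper_dim a p hp hE j
  have h3 : Module.finrank k (LinearMap.range (Canon.HHlin k (mulHyp a E j) 1)) = hh (n + 1) 1 E j := by
    rw [LinearMap.range_eq_top.2 ((VBPn.hhlin_mul a p hp hE j).2 h), finrank_top]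
    exact h2
  omega

end Groth.Agent.H02CA.GM
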