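import Groth.Agent.H17.Horrocks.Twists
import Groth.Agent.H17.PnExt.Shape
import Groth.Agent.H02CA.VBPn.Pairing
import Groth.Agent.H22Alg.ExtPowTwist
import Groth.Agent.H29CurveDual.CanonAux
import Groth.Agent.H29RR.PnPic
import Groth.Agent.H29RR.P1Split
import Groth.Agent.H29RR.MonoHom
import Groth.Agent.H02CA.VBPn.SimpleTwist
import Groth.Agent.H22Alg.CMHyper
import Groth.Agent.LeadPic.PnRel

/-!
Absence of nonzero maps between modules on projective space, and self-duality of rank two modules.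
-/

set_option autoImplicit false
set_option backward.isDefEq.respectTransparency false
set_option linter.style.haveILetI false
set_option maxHeartbeats 800000

universe u

open CategoryTheory CategoryTheory.Limits AlgebraicGeometry exteriorPower
open Groth.Agent

noncomputable section

namespace Groth.Agent.H02CA.GM

attribute [local instance 10000] H10Coh.hasSheafifyAb H10Coh.hasWeakSheafifyAb H10Coh.hasExtAb H10Coh.enoughInjAb

/-- There are no nonzero maps. -/
def NoHom {X : Scheme.{u}} (A B : X.Modules) : Prop := ∀ g : A ⟶ B, g = 0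

theorem noHom_congr {X : Scheme.{u}} {A A' B B' : X.Modules} (e : A ≅ A') (f : B ≅ B') :
    NoHom A B ↔ NoHom A' B' :=
  ⟨fun h g => by
    have := h (e.hom ≫ g ≫ f.inv)
    rwa [← cancel_epi e.hom, ← cancel_mono f.inv, comp_zero, zero_comp, Category.assoc],
  fun h g => by
    have := h (e.inv ≫ g ≫ f.hom)
    rwa [← cancel_epi e.inv, ← cancel_mono f.hom, comp_zero, zero_comp, Category.assoc]⟩

theorem noHom_biprod_left {X : Scheme.{u}} (A B C : X.Modules) : NoHom (A ⊞ B) C ↔ NoHom A C ∧ NoHom B C := by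
  refine ⟨fun h => ⟨fun g => ?_, fun g => ?_⟩, fun h g => ?_⟩
  · rw [← biprod.inl_desc g (0 : B ⟶ C), h (biprod.desc g 0), comp_zero]
  · rw [← biprod.inr_desc (0 : A ⟶ C) g, h (biprod.desc 0 g), comp_zero]
  · apply biprod.hom_ext'
    · rw [h.1 (biprod.inl ≫ g), comp_zero]
    · rw [h.2 (biprod.inr ≫ g), comp_zero]

theorem noHom_biprod_right {X : Scheme.{u}} (A B C : X.Modules) : NoHom C (A ⊞ B) ↔ NoHom C A ∧ NoHom C B := by
  refine ⟨fun h => ⟨fun g => ?_, fun g => ?_⟩, fun h g => ?_⟩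
  · rw [← biprod.lift_fst g (0 : C ⟶ B), h (biprod.lift g 0), zero_comp]
  · rw [← biprod.lift_snd (0 : C ⟶ A) g, h (biprod.lift 0 g), zero_comp]
  · apply biprod.hom_ext
    · rw [h.1 (g ≫ biprod.fst), zero_comp]
    · rw [h.2 (g ≫ biprod.snd), zero_comp]

theorem noHom_structure_iff {X : Scheme.{u}} (G : X.Modules) :
    NoHom (Coh.structureModule X) G ↔ Subsingleton (Coh.HH X G 0) := by
  refine ⟨fun h => subsingleton_of_forall_eq 0 fun x => (H10Coh.HH0Equiv G).injective ?_,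
    fun h g => H29CurveDual.hom_structure_eq_zero G h g⟩
  rw [map_zero, ← H11Ample.val_homOfGlobal (L := G) (H10Coh.HH0Equiv G x), h (H11Tilde.homOfGlobal G _)]
  rfl

/-- For a rank two module with determinant data, sections vanish iff maps to the determinant do. -/
theorem noHom_det_iff {X : Scheme.{u}} {G L : X.Modules} (hG : FlatMod.IsFinLocFreeOfRank 2 G)
    (hL : ExtPow.IsExtPow 2 G L) : NoHom G L ↔ Subsingleton (Coh.HH X G 0) := by
  refine ⟨fun h => subsingleton_of_forall_eq 0 fun x => (H10Coh.HH0Equiv G).injective ?_, fun h f => ?_⟩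
  · rw [map_zero]
    obtain ⟨φ, w, hw⟩ := VBPn.exists_wedge hL (H10Coh.HH0Equiv G x)
    refine H29Ref.sec_ext G fun y hy => ?_
    obtain ⟨U, hyU, ⟨e⟩⟩ := hG y
    obtain ⟨m, hm⟩ := H26Base.BasisLite.exists_isBasisOn_of_chart G e
    obtain ⟨V, hV, hyV, hVU⟩ := exists_isAffineOpen_mem_and_subset (x := y) (U := U) hyU
    have h0 := VBPn.eq_of_isWedge (φ := φ) (f := w) hm hV hVU
      (t := G.presheaf.map (homOfLE (le_top : V ≤ ⊤)).op (H10Coh.HH0Equiv G x)) (t' := 0)
      (fun W hW v => by rw [H10Coh.mres_mres]; exact hw W v)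
      (fun W hW v => by
        rw [h w]
        refine Eq.trans ?_ ((ιMulti Γ(X, W.1) 2).map_coord_zero (m := ![G.presheaf.map (homOfLE hW).op 0, v]) 0
          (map_zero _)).symm
        exact map_zero (φ W))
    rw [map_zero, ← TopCat.Presheaf.germ_res_apply G.presheaf (homOfLE (le_top : V ≤ ⊤)) y hyV]
    exact (congrArg _ h0).trans (map_zero _)
  · by_contra hf
    obtain ⟨t, ht⟩ := VBPn.exists_section_of_hom hG hL f hf
    exact ht ((H10Coh.HH0Equiv G).symm.injective (@Subsingleton.elim _ h _ _))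

section Pn

open H17.Horrocks H10Coh

variable {k : Type u} [Field k] {n : ℕ}

local notation "P" => Proj (Pn.Gr n k)

theorem noHom_T (A B : (P).Modules) (a : ℤ) : NoHom A B ↔ NoHom ((T n k a).obj A) ((T n k a).obj B) :=
  ⟨fun h g => by rw [← (T n k a).map_preimage g, h ((T n k a).preimage g), Functor.map_zero],
    fun h g => (T n k a).map_injective (by rw [h ((T n k a).map g), Functor.map_zero])⟩

/-- Twisting maps to `O(e)`. -/
theorem noHom_twist_target (A : (P).Modules) {a e b : ℤ} (h : b = a + e) :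
    NoHom A (Pn.Od n k e) ↔ NoHom (CohB1.tensorMod A (Pn.Od n k a)) (Pn.Od n k b) := by
  obtain ⟨i⟩ := nonempty_T_od (n := n) (R := k) h
  exact (noHom_T A _ a).trans (noHom_congr (swapIso A a).symm i)

/-- Twisting maps from `O(e)`. -/
theorem noHom_twist_source (A : (P).Modules) {a e b : ℤ} (h : b = a + e) :
    NoHom (Pn.Od n k e) A ↔ NoHom (Pn.Od n k b) (CohB1.tensorMod A (Pn.Od n k a)) := by
  obtain ⟨i⟩ := nonempty_T_od (n := n) (R := k) h
  exact (noHom_T _ A a).trans (noHom_congr i (swapIso A a).symm)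

theorem noHom_od_zero_iff (G : (P).Modules) : NoHom (Pn.Od n k 0) G ↔ Subsingleton (Coh.HH (P) G 0) :=
  (noHom_congr (H11Tilde.nonempty_twist_zero_iso (Pn.Gr n k)).some (Iso.refl G)).trans (noHom_structure_iff G)

theorem noHom_od_od (hn : n ≠ 0) (a b : ℤ) : NoHom (Pn.Od n k a) (Pn.Od n k b) ↔ b < a := by
  obtain ⟨i⟩ := nonempty_T_od (n := n) (R := k) (show b - a = -a + b by ring)
  refine ((noHom_twist_source (Pn.Od n k b) (show (0 : ℤ) = -a + a by ring)).trans (noHom_od_zero_iff _)).trans ?_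
  refine ⟨fun h => ?_, fun h => ?_⟩
  · by_contra hlt
    haveI : Nontrivial (Coh.HH (CohB1.ProjSpace n k) (Twist.twistProjSpace n k (b - a)) 0) :=
      H29RR.PnPic.nontrivial_h0_nonneg (n := n) (k := k) (by omega)
    have := subsingleton_HH_of_iso (swapIso (Pn.Od n k b) (-a) ≪≫ i) 0 h
    exact not_subsingleton (Coh.HH (CohB1.ProjSpace n k) (Twist.twistProjSpace n k (b - a)) 0) this
  · exact subsingleton_HH_of_iso (swapIso (Pn.Od n k b) (-a) ≪≫ i).symm 0
      (Pn.subsingleton_HH_Od 0 (by omega) (by omega))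

/-- The determinant of a twist of a rank two module. -/
theorem exists_det_twist {E : (CohB1.ProjSpace n k).Modules} (hE : FlatMod.IsFinLocFreeOfRank 2 E) {c : ℤ}
    (hdet : ∃ L, ExtPow.IsExtPow 2 E L ∧ Nonempty (L ≅ Twist.twistProjSpace n k c)) (j : ℤ) :
    FlatMod.IsFinLocFreeOfRank 2 (CohB1.tensorMod E (Twist.twistProjSpace n k j)) ∧
      ∃ M, ExtPow.IsExtPow 2 (CohB1.tensorMod E (Twist.twistProjSpace n k j)) M ∧
        Nonempty (M ≅ Twist.twistProjSpace n k (c + (j + j))) := by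
  have hT := H10Coh.Stab.isTwistFamily_projSpace n k
  have hk : PicF.IsInvertible (Twist.twistProjSpace n k j) := hT.inv j
  haveI : IsIntegral (CohB1.ProjSpace n k) := LeadPic.PnRel.isIntegral_projSpace (n := n) k
  haveI := H22Alg.CMHyper.noetherian k n
  have hE' := H29RR.rank_tensor hE hk
  have hEq : Coh.IsQCoh E := H8Props.FinLocFree.isQCoh_of_isFinLocFree _ fun x =>
    let ⟨U, hx, he⟩ := hE x
    ⟨U, 2, hx, he⟩
  obtain ⟨M, hM⟩ := H22Alg.ExtPowSheaf.exists_isExtPow 2 (H8Props.FinLocFree.isQCoh_of_isFinLocFree _ fun x =>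
    let ⟨U, hx, he⟩ := hE' x
    ⟨U, 2, hx, he⟩)
  obtain ⟨L, hL, ⟨eL⟩⟩ := hdet
  obtain ⟨e₁⟩ := H22Alg.ExtPowTwist.nonempty_iso hEq hk hL hM
  obtain ⟨e₂⟩ := hT.add j j
  obtain ⟨e₃⟩ := hT.add c (j + j)
  exact ⟨hE', M, hM, ⟨e₁ ≪≫
    PicGrp.tensorModIso eL (PicGrp.tensorModIso (H10Coh.Tw.leftUnitIso _) (Iso.refl _) ≪≫ e₂) ≪≫ e₃⟩⟩

/-- Self-duality of rank two modules, for sections. -/
theorem noHom_dual {E : (P).Modules} (hE : FlatMod.IsFinLocFreeOfRank 2 E) {c : ℤ}
    (hdet : ∃ L, ExtPow.IsExtPow 2 E L ∧ Nonempty (L ≅ Twist.twistProjSpace n k c)) (j : ℤ) :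
    NoHom E (Pn.Od n k (j + c)) ↔ Subsingleton (Coh.HH (P) (CohB1.tensorMod E (Pn.Od n k j)) 0) := by
  obtain ⟨hG, M, hM, ⟨eM⟩⟩ := exists_det_twist hE hdet j
  rw [noHom_twist_target E (show c + (j + j) = j + (j + c) by ring)]
  exact (noHom_congr (Iso.refl _) eM.symm).trans (noHom_det_iff hG hM)

theorem noHom_source_iff (E : (P).Modules) (j : ℤ) :
    NoHom (Pn.Od n k (-j)) E ↔ Subsingleton (Coh.HH (P) (CohB1.tensorMod E (Pn.Od n k j)) 0) :=
  (noHom_twist_source E (show (0 : ℤ) = j + -j by ring)).trans (noHom_od_zero_iff _)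

/-- Absence of maps to `O(b)` passes to smaller twists. -/
theorem noHom_od_mono (hn : n ≠ 0) {E : (P).Modules} {a b : ℤ} (h : a ≤ b) (hb : NoHom E (Pn.Od n k b)) :
    NoHom E (Pn.Od n k a) := by
  haveI : IsIntegral (CohB1.ProjSpace n k) := LeadPic.PnRel.isIntegral_projSpace (n := n) k
  haveI := H22Alg.CMHyper.noetherian k n
  intro g
  obtain ⟨μ, hμ⟩ : ∃ μ : Pn.Od n k a ⟶ Pn.Od n k b, μ ≠ 0 := by
    by_contra hc
    push Not at hc
    exact absurd ((noHom_od_od hn a b).1 hc) (by omega)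
  haveI := (H29RR.mono_of_ne_zero ((Stab.isTwistFamily_projSpace n k).inv a)
    ((Stab.isTwistFamily_projSpace n k).inv b) hμ).1
  exact (cancel_mono μ).1 ((hb (g ≫ μ)).trans zero_comp.symm)

end Pn

end Groth.Agent.H02CA.GM
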