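import Groth.Agent.H02CA.GM.Engine
import Groth.Agent.H02CA.GM.NoHom
import Groth.Agent.H11Ample.Global
import Groth.Agent.H11Ample.Converse
import Groth.Agent.H22Alg.ExtPowHom
import Groth.Agent.H26Gr.QuotBC
import Groth.Agent.H22Alg.MumfordStep

/-!
Restriction of semistable rank two bundles to a general linear subspace.
-/

set_option autoImplicit false
set_option backward.isDefEq.respectTransparency false
set_option linter.style.haveILetI false
set_option maxHeartbeats 1600000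

universe u

open CategoryTheory CategoryTheory.Limits AlgebraicGeometry
open Groth.Agent

noncomputable section

namespace Groth.Agent.H02CA.GM

attribute [local instance 10000] H10Coh.hasSheafifyAb H10Coh.hasWeakSheafifyAb H10Coh.hasExtAb H10Coh.enoughInjAb

open H17.Horrocks H10Coh

theorem spans_iso {X : Scheme.{u}} {F G : X.Modules} {N : Type u} {s : N → Γ(F, ⊤)} (hs : Spans s) (e : F ≅ G) :
    Spans fun i => e.hom.app ⊤ (s i) := fun V hV => by
  refine eq_top_iff.2 fun m hm => ?_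
  clear hm
  have hm : m = e.hom.app V (e.inv.app V m) :=
    (congr($(congrArg (fun f => Scheme.Modules.Hom.app f V) e.inv_hom_id) m)).symm
  rw [hm]
  have h : e.inv.app V m ∈ Submodule.span Γ(X, V) (Set.range fun i => rs s i V) := (hs V hV).symm ▸ trivial
  generalize e.inv.app V m = z at h ⊢
  induction h using Submodule.span_induction with
  | mem y hy => obtain ⟨i, rfl⟩ := hy; exact Submodule.subset_span ⟨i, (app_rs e.hom i V).symm⟩
  | zero => rw [map_zero]; exact zero_mem _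
  | add y z _ _ hy hz => rw [map_add]; exact add_mem hy hz
  | smul r y _ hy => rw [Scheme.Modules.Hom.app_smul]; exact Submodule.smul_mem _ _ hy

variable {k : Type u} [Field k]

/-- High twists are generated by finitely many sections. -/
theorem exists_spans_twist {n : ℕ} (E : (CohB1.ProjSpace n k).Modules) (hE : FlatMod.IsFinLocFree E) :
    ∃ n₀ : ℕ, ∀ m, n₀ ≤ m → ∃ (N : Type u) (_ : Fintype N)
      (s : N → Γ(CohB1.tensorMod E (Twist.twistProjSpace n k (m : ℤ)), ⊤)), Spans s := by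
  haveI := H22Alg.CMHyper.noetherian k n
  haveI : CompactSpace (CohB1.ProjSpace n k) := H11Ample.compactSpace_projSpace n k
  haveI : QuasiSeparatedSpace (CohB1.ProjSpace n k) := H11Ample.quasiSeparatedSpace_projSpace n k
  obtain ⟨n₀, h⟩ := H11Ample.eventually_spanning (H11Ample.isAmple_twistProjSpace n k) (Tw.isCoh_of_vb hE)
  refine ⟨n₀, fun m hm => ?_⟩
  obtain ⟨N, hN, g, hg⟩ := h m hm
  obtain ⟨i⟩ := H11Tilde.nonempty_twist_iso_tensorPow (CohB1.polyGrading n k)
    (fun x => by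
      obtain ⟨j, hj⟩ := H11Ample.exists_mem_basicOpen_X (n := n) (R := k) x
      exact ⟨_, H11Ample.X_mem j, hj⟩) m
  let e : CohB1.tensorMod E (CohB1.tensorPow (Twist.twistProjSpace n k 1) m) ≅
      CohB1.tensorMod E (Twist.twistProjSpace n k (m : ℤ)) := PicGrp.tensorModIso (Iso.refl E) i.symm
  haveI : (CohB1.tensorMod E (CohB1.tensorPow (Twist.twistProjSpace n k 1) m)).IsQuasicoherent :=
    H11Ample.isQCoh_tensor (Tw.isCoh_of_vb hE).1 (H11Ample.isInvertible_tensorPow H11Ample.isInvertible_twist m)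
  exact ⟨N, hN, _, spans_iso (spans_of_locally g hg) e⟩

theorem noHom_of_twist {n : ℕ} {A F : (CohB1.ProjSpace n k).Modules} {a e b : ℤ}
    (j : F ≅ CohB1.tensorMod A (Twist.twistProjSpace n k a)) (hb : b = a + e) (h : NoHom F (Pn.Od n k b)) :
    NoHom A (Pn.Od n k e) :=
  (noHom_twist_target A hb).2 ((noHom_congr (j ≪≫ PicGrp.tensorModIso (Iso.refl A)
    (eqToIso (H17.PnExt.od_eq n k a))) (Iso.refl _)).1 h)

/-- No maps to `O(e)` persists on some linear subspace. -/
theorem exists_linear [CharZero k] {r q : ℕ} (hr : 0 < r) (E : (CohB1.ProjSpace (r + q) k).Modules)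
    (hE : FlatMod.IsFinLocFreeOfRank 2 E) (c e : ℤ)
    (hdet : ∃ L, ExtPow.IsExtPow 2 E L ∧ Nonempty (L ≅ Twist.twistProjSpace (r + q) k c))
    (hd : 2 * e - c + 1 < 0 ∨ (2 * e - c + 1 = 0 ∧ 1 < r))
    (hhom : NoHom E (Pn.Od (r + q) k e)) :
    ∃ i : CohB1.ProjSpace r k ⟶ CohB1.ProjSpace (r + q) k, IsClosedImmersion i ∧
      i ≫ CohB1.ProjSpace.toSpec (r + q) k = CohB1.ProjSpace.toSpec r k ∧
      Nonempty ((Scheme.Modules.pullback i).obj (Twist.twistProjSpace (r + q) k 1) ≅ Twist.twistProjSpace r k 1) ∧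
      FlatMod.IsFinLocFreeOfRank 2 ((Scheme.Modules.pullback i).obj E) ∧
      (∃ L, ExtPow.IsExtPow 2 ((Scheme.Modules.pullback i).obj E) L ∧ Nonempty (L ≅ Twist.twistProjSpace r k c)) ∧
      NoHom ((Scheme.Modules.pullback i).obj E) (Pn.Od r k e) := by
  haveI := H22Alg.CMHyper.noetherian k (r + q)
  haveI := H22Alg.CMHyper.noetherian k r
  have hflf : FlatMod.IsFinLocFree E := fun x =>
    let ⟨U, hx, he⟩ := hE x
    ⟨U, 2, hx, he⟩
  obtain ⟨n₀, hn₀⟩ := exists_spans_twist E hflf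
  let T : ℕ := max n₀ (e.natAbs + c.natAbs)
  have hT1 : n₀ ≤ T := le_max_left _ _
  have hT2 : e.natAbs + c.natAbs ≤ T := le_max_right _ _
  obtain ⟨N, hN, s, hs⟩ := hn₀ T hT1
  let d : ℕ := (e + T).toNat
  let D : ℕ := (c + (T + T)).toNat
  have hdd : (d : ℤ) = (T : ℤ) + e := by omega
  have hDD : (D : ℤ) = c + ((T : ℤ) + T) := by omega
  obtain ⟨hF, M, hM, ⟨eM⟩⟩ := exists_det_twist hE hdet (T : ℤ)
  obtain ⟨p, hp⟩ := exists_member (q := q) hr (d := d) (D := D) hF hs hM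
    (eM ≪≫ eqToIso (congrArg (fun z => Twist.twistProjSpace (r + q) k z) hDD.symm)) (by omega)
    ((noHom_twist_target E hdd).1 hhom)
  let i : CohB1.ProjSpace r k ⟶ CohB1.ProjSpace (r + q) k := member p
  obtain ⟨eO⟩ := nonempty_member_iso (r := r) (q := q) p
  have eO' : (Scheme.Modules.pullback i).obj (Twist.twistProjSpace (r + q) k 1) ≅ Twist.twistProjSpace r k 1 := eO
  have hTn := Stab.isTwistFamily_projSpace (r + q) k
  have hTr := Stab.isTwistFamily_projSpace r k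
  obtain ⟨τc⟩ := H22Alg.MumfordStep.fam_unique (hTn.pullback i) hTr eO' c
  obtain ⟨τT⟩ := H22Alg.MumfordStep.fam_unique (hTn.pullback i) hTr eO' (T : ℤ)
  obtain ⟨L, hL, ⟨eL⟩⟩ := hdet
  refine ⟨i, isClosedImmersion_member p, member_toSpec p, ⟨eO'⟩, H26Gr.isFinLocFreeOfRank_pullback i hE,
    ⟨_, H22Alg.ExtPowHom.isExtPow_pullback i (H8Props.FinLocFree.isQCoh_of_isFinLocFree _ hflf) hL,
      ⟨(Scheme.Modules.pullback i).mapIso eL ≪≫ τc⟩⟩, ?_⟩
  exact noHom_of_twist ((H16Derived.KFlat.Stalk.pullTensorLIso i (Twist.twistProjSpace (r + q) k (T : ℤ))).app E ≪≫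
    PicGrp.tensorModIso (Iso.refl _) τT) hdd hp

/-- Two line bundles as a binary sum. -/
def coprodTwoIso {C : Type*} [Category C] [Preadditive C] [HasFiniteCoproducts C] [HasBinaryBiproducts C]
    (f : Fin 2 → C) : (∐ f) ≅ f 0 ⊞ f 1 where
  hom := Sigma.desc (Fin.cases biprod.inl (Fin.cases biprod.inr fun i => i.elim0))
  inv := biprod.desc (Sigma.ι f 0) (Sigma.ι f 1)
  hom_inv_id := Sigma.hom_ext _ _ fun i => by
    refine Fin.cases ?_ (fun j => ?_) i
    · simp
    · refine Fin.cases ?_ (fun l => l.elim0) j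
      rw [Sigma.ι_desc_assoc, Category.comp_id]
      exact biprod.inr_desc _ _
  inv_hom_id := by
    apply biprod.hom_ext'
    · simp
    · rw [biprod.inr_desc_assoc, Sigma.ι_desc, Category.comp_id]
      rfl

/-- The splitting type on a line on which the normalised twist has no negative summand. -/
theorem nonempty_splitting (G : (CohB1.ProjSpace 1 k).Modules) (hG : FlatMod.IsFinLocFreeOfRank 2 G) (c k₀ : ℤ)
    (hdet : ∃ L, ExtPow.IsExtPow 2 G L ∧ Nonempty (L ≅ Twist.twistProjSpace 1 k c))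
    (hk₀ : c + 2 * k₀ = 0 ∨ c + 2 * k₀ = -1) (h : NoHom G (Pn.Od 1 k (k₀ - 1 + c))) :
    Nonempty (G ≅ Twist.twistProjSpace 1 k (-k₀) ⊞ Twist.twistProjSpace 1 k (c + k₀)) := by
  obtain ⟨d, hd, ⟨e₀⟩⟩ := H29RR.PnPic.exists_splitting 2 G hG
  let e : G ≅ Pn.Od 1 k (d 0) ⊞ Pn.Od 1 k (d 1) := e₀ ≪≫ coprodTwoIso _
  have hd01 : d 1 ≤ d 0 := hd (Fin.zero_le _)
  have hsrc : ∀ a, NoHom (Pn.Od 1 k a) G ↔ d 0 < a ∧ d 1 < a := fun a => by
    rw [noHom_congr (Iso.refl _) e, noHom_biprod_right, noHom_od_od one_ne_zero, noHom_od_od one_ne_zero]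
  have htgt : ∀ b, NoHom G (Pn.Od 1 k b) ↔ b < d 0 ∧ b < d 1 := fun b => by
    rw [noHom_congr e (Iso.refl _), noHom_biprod_left, noHom_od_od one_ne_zero, noHom_od_od one_ne_zero]
  have hdual : ∀ j : ℤ, (j + c < d 0 ∧ j + c < d 1) ↔ (d 0 < -j ∧ d 1 < -j) := fun j => by
    rw [← htgt, ← hsrc, noHom_dual hG hdet j, noHom_source_iff]
  have h1 := (htgt _).1 h
  have h2 := (hdual _).1 h1
  have h3 := hdual k₀
  have he : d 0 = -k₀ ∧ d 1 = c + k₀ := by omega
  exact ⟨e ≪≫ biprod.mapIso (eqToIso ((congrArg (fun z => Pn.Od 1 k z) he.1).trans (H17.PnExt.od_eq 1 k _).symm))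
    (eqToIso ((congrArg (fun z => Pn.Od 1 k z) he.2).trans (H17.PnExt.od_eq 1 k _).symm))⟩

end Groth.Agent.H02CA.GM
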