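import Groth.Agent.H02CA.GM.UType
import Groth.Agent.H02CA.GM.Bilinear
import Groth.Agent.H22Alg.CMField

/-!
Rank two bundles on the plane of type `(0, -1)` on every line and without sections.
-/

set_option autoImplicit false
set_option linter.style.haveILetI false
set_option backward.isDefEq.respectTransparency false
set_option maxHeartbeats 1600000
universe u

open CategoryTheory CategoryTheory.Limits AlgebraicGeometry TopologicalSpace Opposite
open Groth.Agent

namespace Groth.Agent.H02CA.GM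

attribute [local instance 10000] H10Coh.hasSheafifyAb H10Coh.hasWeakSheafifyAb H10Coh.hasExtAb H10Coh.enoughInjAb
attribute [local instance] H29RR.PnPic.overSpec

open H22Alg

variable {k : Type u} [Field k] {G : (CohB1.ProjSpace 2 k).Modules}

local notation "P2" => CohB1.ProjSpace 2 k
local notation "O(" d ")" => Twist.twistProjSpace 2 k d

theorem h1_le {n : ℕ} (a : Fin (n + 2) → k) (p : Fin (n + 2)) (hp : a p ≠ 0) {E : (CohB1.ProjSpace (n + 1) k).Modules}
    (hE : FlatMod.IsFinLocFree E) (j : ℤ)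
    (h : Subsingleton (Coh.HH (CohB1.ProjSpace n k)
      (CohB1.tensorMod ((Scheme.Modules.pullback (HyperplanePn.emb a p)).obj E) (Twist.twistProjSpace n k j)) 1)) :
    hh (n + 1) 1 E j ≤ hh (n + 1) 1 E (j - 1) := by
  obtain ⟨-, -, h2⟩ := hyper_dim a p hp hE j
  haveI := finite_twist hE (j - 1) 1
  rw [← h2]
  exact LinearMap.finrank_le_finrank_of_surjective ((VBPn.hhlin_mul a p hp hE j).2 h)

/-- A linear family of maps to a space of large dimension has a member which is not onto. -/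
theorem exists_not_surjective {K : Type*} [Field K] [IsAlgClosed K] {V W : Type*} [AddCommGroup V] [Module K V]
    [AddCommGroup W] [Module K W] [Module.Finite K V] [Module.Finite K W] {p q : ℕ}
    (L : (Fin (p + 1) → K) →ₗ[K] V →ₗ[K] W) (hW : Module.finrank K W = q + 1) (hV : Module.finrank K V ≤ p + q) :
    ∃ x ≠ 0, ¬ Function.Surjective (L x) := by
  let bV := Module.finBasis K V
  let bW := Module.finBasisOfFinrankEq K W hW
  obtain ⟨x, y, hx, hy, hxy⟩ := exists_bilinear_zero hV fun l i j => bW.repr (L (Pi.single i 1) (bV l)) j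
  refine ⟨x, hx, fun hs => hy (funext fun j => ?_)⟩
  let φ : W →ₗ[K] K := ∑ j, y j • bW.coord j
  have hφ : φ ∘ₗ L x = 0 := bV.ext fun l => by
    have hsum : x = ∑ i, x i • (Pi.single i 1 : Fin (p + 1) → K) := pi_eq_sum_univ' x
    have hLx : L x (bV l) = ∑ i, x i • L (Pi.single i 1) (bV l) := by
      conv_lhs => rw [hsum, map_sum, LinearMap.sum_apply]
      simp only [map_smul, LinearMap.smul_apply]
    rw [LinearMap.comp_apply, LinearMap.zero_apply, hLx, ← hxy l, map_sum]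
    refine Finset.sum_congr rfl fun i _ => ?_
    simp only [φ, map_smul, LinearMap.sum_apply, LinearMap.smul_apply, Module.Basis.coord_apply, smul_eq_mul,
      Finset.mul_sum]
    exact Finset.sum_congr rfl fun j _ => by ring
  obtain ⟨v, hv⟩ := hs (bW j)
  have h1 := LinearMap.congr_fun hφ v
  rw [LinearMap.comp_apply, hv] at h1
  simpa [φ, Finsupp.single_apply] using h1

/-- Two dimensions of first cohomology. -/
theorem UType.h1_eq_zero [IsAlgClosed k] (h : UType G 1) (hG : FlatMod.IsFinLocFree G)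
    (h0 : hh 2 0 G 0 = 0) : hh 2 1 G 0 = 0 := by
  let a₀ : Fin 3 → k := Pi.single 0 1
  have hE : hh 1 0 ((Scheme.Modules.pullback (HyperplanePn.emb (n := 1) a₀ 0)).obj G) 0 + hh 2 1 G 0 +
      hh 2 0 G (0 - 1) = hh 2 0 G 0 + hh 2 1 G (0 - 1) :=
    hyper_euler (n := 1) a₀ 0 (by simp [a₀]) hG 0 ((h.line _ _ (by simp [a₀]) 0).2 (by norm_num))
  rw [(h.line _ _ (by simp [a₀]) _).1, h0, hh_eq_zero (h.h0_neg hG (show (0 : ℤ) - 1 < 0 by norm_num))] at hE
  by_contra hne
  obtain ⟨q, hq⟩ : ∃ q, hh 2 1 G 0 = q + 1 := ⟨hh 2 1 G 0 - 1, by omega⟩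
  let V := Coh.HH P2 (CohB1.tensorMod G O((0 : ℤ) - 1)) 1
  let W := Coh.HH P2 (CohB1.tensorMod (CohB1.tensorMod G O((0 : ℤ) - 1)) O(1)) 1
  haveI : Module.Finite k V := finite_twist hG _ 1
  let μ : (Fin 3 → k) → V →ₗ[k] W := fun x => Canon.HHlin k (mulHyp (n := 1) x G 0) 1
  have hμ : ∀ (x y : Fin 3 → k) (c : k) (v : V), μ (y + c • x) v = μ y v + c • μ x v := fun x y c v => by
    show Canon.HHlin k (SectionCut.mul (L := O(1)) (VBPn.hypSec (y + c • x)) (CohB1.tensorMod G O((0 : ℤ) - 1))) 1 v = _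
    rw [VBPn.mul_add_smul, H29RR.hhlin_add, H29RR.hhlin_comp]
    rfl
  have hμ0 : ∀ v, μ 0 v = 0 := fun v => by
    have h := hμ 0 0 1 v
    rw [smul_zero, add_zero, one_smul] at h
    exact left_eq_add.1 h
  let μl : (Fin 3 → k) →ₗ[k] V →ₗ[k] W :=
    { toFun := μ
      map_add' := fun x y => LinearMap.ext fun v => by
        have h := hμ y x 1 v
        rwa [one_smul, one_smul] at h
      map_smul' := fun c x => LinearMap.ext fun v => by
        have h := hμ x 0 c v
        rwa [zero_add, hμ0, zero_add] at h }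
  have hWd : Module.finrank k W = q + 1 :=
    (hyper_dim (n := 1) a₀ 0 (by simp [a₀]) hG 0).2.2.trans hq
  haveI : Module.Finite k W := finite_twist (H16Derived.KFlat.Stalk.isFinLocFree_tensor hG
    (H28Pinch.isFinLocFree_of_isInvertible ((H10Coh.Stab.isTwistFamily_projSpace 2 k).inv ((0 : ℤ) - 1)))) 1 1
  have hVd : Module.finrank k V ≤ 2 + q := by
    have : Module.finrank k V = hh 2 1 G (0 - 1) := rfl
    omega
  obtain ⟨x, hx, hns⟩ := exists_not_surjective μl hWd hVd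
  obtain ⟨i₀, hi₀⟩ := Function.ne_iff.1 hx
  exact hns ((VBPn.hhlin_mul (n := 1) x i₀ hi₀ hG 0).2 ((h.line x i₀ hi₀ 0).2 (by norm_num)))

/-- The numerical facts. -/
theorem UType.one_facts [IsAlgClosed k] (h : UType G 1) (hG : FlatMod.IsFinLocFree G)
    (h0 : hh 2 0 G 0 = 0) :
    hh 2 0 G 1 = 3 ∧ hh 2 0 G 2 = 8 ∧ CMField.Reg (fun d => Twist.twistProjSpace 2 k d) G 1 := by
  let a₀ : Fin 3 → k := Pi.single 0 1
  have ha : a₀ 0 ≠ 0 := by simp [a₀]
  have hl := fun j hj => (h.line a₀ 0 ha j).2 hj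
  have h10 := h.h1_eq_zero hG h0
  have h11 : hh 2 1 G 1 = 0 := by
    have h1 : hh 2 1 G 1 ≤ hh 2 1 G (1 - 1) := h1_le (n := 1) a₀ 0 ha hG 1 (hl 1 (by norm_num))
    rw [show (1 : ℤ) - 1 = 0 by norm_num] at h1
    omega
  have h12 : hh 2 1 G 2 = 0 := by
    have h1 : hh 2 1 G 2 ≤ hh 2 1 G (2 - 1) := h1_le (n := 1) a₀ 0 ha hG 2 (hl 2 (by norm_num))
    rw [show (2 : ℤ) - 1 = 1 by norm_num] at h1
    omega
  have e1 : hh 1 0 ((Scheme.Modules.pullback (HyperplanePn.emb (n := 1) a₀ 0)).obj G) 1 + hh 2 1 G 1 +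
      hh 2 0 G (1 - 1) = hh 2 0 G 1 + hh 2 1 G (1 - 1) := hyper_euler (n := 1) a₀ 0 ha hG 1 (hl 1 (by norm_num))
  rw [(h.line _ _ ha _).1, show (1 : ℤ) - 1 = 0 by norm_num, h0, h10, h11] at e1
  have e2 : hh 1 0 ((Scheme.Modules.pullback (HyperplanePn.emb (n := 1) a₀ 0)).obj G) 2 + hh 2 1 G 2 +
      hh 2 0 G (2 - 1) = hh 2 0 G 2 + hh 2 1 G (2 - 1) := hyper_euler (n := 1) a₀ 0 ha hG 2 (hl 2 (by norm_num))
  rw [(h.line _ _ ha _).1, show (2 : ℤ) - 1 = 1 by norm_num, h11, h12] at e2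
  refine ⟨by omega, by omega, fun i hi => CMField.van_iff.2 ?_⟩
  obtain rfl | rfl | hi3 : i = 1 ∨ i = 2 ∨ 2 < i := by omega
  · exact subsingleton_of_hh hG (show hh 2 1 G (1 - ((1 : ℕ) : ℤ)) = 0 by norm_num; exact h10)
  · obtain ⟨d₀, hd₀⟩ := VBPn.exists_high (H10Coh.Tw.isCoh_of_vb hG)
    suffices H : ∀ (t : ℕ) (j : ℤ), -1 ≤ j → d₀ ≤ j + t →
        Subsingleton (Coh.HH P2 (CohB1.tensorMod G O(j)) 2) from
      H (d₀ - (1 - ((2 : ℕ) : ℤ))).toNat _ (by norm_num) (by omega)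
    intro t
    induction t with
    | zero => exact fun j _ hj => hd₀ j (by simpa using hj) _ (by norm_num)
    | succ t ih =>
      intro j hj1 hj
      obtain ⟨S, hS, ⟨e₁⟩, ⟨e₂⟩, h₃⟩ := VBPn.exists_seq (n := 1) a₀ 0 ha hG (j + 1)
      rw [add_sub_cancel_right] at e₁
      refine H10Coh.subsingleton_HH_of_iso e₁ 2 (CMField.van_iff.1 ?_)
      exact H28Int.subsingleton_X₁ (H10Coh.shortExact_sh hS)
        (CMField.van_iff.2 (H10Coh.subsingleton_HH_of_iso e₂.symm 2 (ih (j + 1) (by omega) (by push_cast at hj; omega))))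
        (CMField.van_iff.2 ((h₃ 1).2 (hl (j + 1) (by omega))))
  · exact CMField.van_iff.1 (CMField.van_high (k := k) (n := 2) hi3
      (H11Ample.isCoh_tensor (H10Coh.Tw.isCoh_of_vb hG) ((H10Coh.Stab.isTwistFamily_projSpace 2 k).inv _)).1)

end Groth.Agent.H02CA.GM
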