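import Groth.Agent.H02CA.GM.HyperDim
import Groth.Agent.H02CA.GM.NoHom
import Groth.Agent.H02CA.VBPn.SerreSeq
import Groth.Agent.H02CA.VBPn.KerLine
import Groth.Agent.H29RR.P1Split
import Groth.Agent.H3CAlg.FormsDim

/-!
Rank two bundles on the plane with the same splitting on every line.
-/

set_option autoImplicit false
set_option linter.style.haveILetI false
set_option backward.isDefEq.respectTransparency false
set_option maxHeartbeats 1600000
universe u

open CategoryTheory CategoryTheory.Limits AlgebraicGeometry TopologicalSpace Opposite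
open Groth.Agent

namespace Groth.Agent.H02CA.GM

attribute [local instance 10000] H10Coh.hasSheafifyAb H10Coh.hasWeakSheafifyAb H10Coh.hasExtAb H10Coh.enoughInjAb
attribute [local instance] H29RR.PnPic.overSpec

open H22Alg

variable {k : Type u} [Field k]

local notation "P2" => CohB1.ProjSpace 2 k
local notation "O(" d ")" => Twist.twistProjSpace 2 k d
local notation "O'(" d ")" => Twist.twistProjSpace 1 k d

/-- The splitting `(0, -δ)` on every line. -/
def UType (G : (P2).Modules) (δ : ℕ) : Prop :=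
  ∀ (a : Fin 3 → k) (p : Fin 3), a p ≠ 0 →
    Nonempty ((Scheme.Modules.pullback (HyperplanePn.emb (n := 1) a p)).obj G ≅
      ∐ fun i : Fin 2 => O'(![0, -(δ : ℤ)] i))

theorem finrank_h0_nat' (n e : ℕ) :
    Module.finrank k (Coh.HH (CohB1.ProjSpace n k) (Twist.twistProjSpace n k (e : ℤ)) 0) = (e + n).choose n :=
  (H29RR.PnPic.finrank_h0_nat e).trans (H3CAlg.finrank_homogeneous n e).2

theorem finrank_h0_line (e : ℤ) :
    Module.finrank k (Coh.HH (CohB1.ProjSpace 1 k) O'(e) 0) = (e + 1).toNat := by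
  rcases lt_or_ge e 0 with h | h
  · haveI := H29RR.PnPic.subsingleton_h0_neg (k := k) one_ne_zero h
    rw [Module.finrank_zero_of_subsingleton]
    omega
  · obtain ⟨t, rfl⟩ := Int.eq_ofNat_of_zero_le h
    rw [finrank_h0_nat', Nat.choose_one_right]
    omega

theorem subsingleton_h1_line {d : ℤ} (hd : -1 ≤ d) : Subsingleton (Coh.HH (CohB1.ProjSpace 1 k) O'(d) 1) :=
  H10Coh.subsingleton_HH_of_iso (eqToIso (H17.PnExt.od_eq 1 k d).symm) 1
    (H10Coh.Pn.subsingleton_HH_Od 1 (fun h => absurd h.1 one_ne_zero) (fun h => by omega))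

variable {G : (CohB1.ProjSpace 2 k).Modules} {δ : ℕ}

theorem UType.line (h : UType G δ) (a : Fin 3 → k) (p : Fin 3) (hp : a p ≠ 0) (j : ℤ) :
    hh 1 0 ((Scheme.Modules.pullback (HyperplanePn.emb (n := 1) a p)).obj G) j =
        (j + 1).toNat + (j - δ + 1).toNat ∧
      ((δ : ℤ) ≤ j + 1 → Subsingleton (Coh.HH (CohB1.ProjSpace 1 k)
        (CohB1.tensorMod ((Scheme.Modules.pullback (HyperplanePn.emb (n := 1) a p)).obj G) O'(j)) 1)) := by
  obtain ⟨e⟩ := h a p hp
  obtain ⟨w⟩ := H29RR.PnPic.nonempty_tensor_sum (n := 1) (k := k) ![0, -(δ : ℤ)] j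
  let e' := PicGrp.tensorModIso e (Iso.refl O'(j)) ≪≫ w
  refine ⟨?_, fun hj => H10Coh.subsingleton_HH_of_iso e'.symm 1 ?_⟩
  · refine (H29RR.hhIso (k := k) e' 0).finrank_eq.trans ?_
    rw [(H29RR.PnPic.finrank_h0_sum one_ne_zero _).1, Fin.sum_univ_two, finrank_h0_line, finrank_h0_line]
    simp only [Matrix.cons_val_zero, Matrix.cons_val_one]
    omega
  · refine H17.Horrocks.subsingleton_map_sigma _ (𝟭 _) 1 (Fin.forall_fin_two.2 ⟨?_, ?_⟩)
    all_goals refine subsingleton_h1_line ?_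
    all_goals simp only [Matrix.cons_val_zero, Matrix.cons_val_one, Matrix.cons_val_fin_one]
    all_goals omega

theorem UType.h0_line_neg (h : UType G δ) (hG : FlatMod.IsFinLocFree G) (a : Fin 3 → k) (p : Fin 3) (hp : a p ≠ 0)
    {j : ℤ} (hj : j < 0) : Subsingleton (Coh.HH (CohB1.ProjSpace 1 k)
      (CohB1.tensorMod ((Scheme.Modules.pullback (HyperplanePn.emb (n := 1) a p)).obj G) O'(j)) 0) := by
  refine subsingleton_of_hh (H16Derived.KFlat.Stalk.isFinLocFree_pullback _ hG) ?_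
  rw [(h.line a p hp j).1]
  omega

/-- No sections in negative degrees. -/
theorem UType.h0_neg (h : UType G δ) (hG : FlatMod.IsFinLocFree G) {j : ℤ} (hj : j < 0) :
    Subsingleton (Coh.HH P2 (CohB1.tensorMod G O(j)) 0) :=
  VBPn.subsingleton_of_hyperplane (n := 1) (Pi.single 0 1) 0 (by simp) hG (by omega) fun i hi =>
    h.h0_line_neg hG _ _ (by simp) (by omega)

/-- A nonzero map from an invertible module to a bundle is injective. -/
theorem mono_of_ne_zero' {X : Scheme.{u}} [IsIntegral X] [IsLocallyNoetherian X] {N E : X.Modules}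
    (hN : PicF.IsInvertible N) (hE : FlatMod.IsFinLocFree E) {φ : N ⟶ E} (hφ : φ ≠ 0) : Mono φ := by
  have hNf := H28Pinch.isFinLocFree_of_isInvertible hN
  refine H29Omega.mono_of_injective_stalkLin φ fun x => ?_
  obtain ⟨hf, hfin, hr⟩ := H25Par.finrank_stalk (H29RR.rank_one_of_isInvertible hN) x
  obtain ⟨U, n, hxU, ⟨e⟩⟩ := hE x
  haveI := hf; haveI := hfin
  obtain ⟨m, hEx⟩ := H22Alg.KExists.stalk_free hE x
  obtain ⟨bE⟩ := hEx
  haveI : Module.Free (X.presheaf.stalk x) (E.presheaf.stalk x) := Module.Free.of_basis bE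
  have hne := VBPn.stalkLin_ne_zero (H8Props.FinLocFree.isQCoh_of_isFinLocFree _ hNf)
    (H8Props.FinLocFree.isQCoh_of_isFinLocFree _ hE) (H25Par.isTorsionFree_of_locFree hE) hφ x
  let b := Module.finBasisOfFinrankEq (X.presheaf.stalk x) (N.presheaf.stalk x) hr
  rw [injective_iff_map_eq_zero]
  intro v hv
  by_contra hv0
  refine hne (b.ext fun i => ?_)
  obtain rfl : i = 0 := Subsingleton.elim _ _
  have hvb : v = b.repr v 0 • b 0 := by
    conv_lhs => rw [← b.sum_repr v, Fin.sum_univ_one]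
  rw [hvb, map_smul] at hv
  rcases smul_eq_zero.1 hv with h0 | h0
  · exact absurd (by rw [hvb, h0, zero_smul]) hv0
  · simpa using h0

/-- A section bounds the sections of all twists from below. -/
theorem choose_le_h0 (hG : FlatMod.IsFinLocFree G) (h : ¬ Subsingleton (Coh.HH P2 G 0)) (t : ℕ) :
    (t + 2).choose 2 ≤ hh 2 0 G (t : ℤ) := by
  haveI := CMHyper.noetherian k 2
  haveI : IsIntegral P2 := LeadPic.PnRel.isIntegral_projSpace (n := 2) k
  have hT := H10Coh.Stab.isTwistFamily_projSpace 2 k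
  obtain ⟨s, hs⟩ : ∃ s : Coh.structureModule P2 ⟶ G, s ≠ 0 := by
    by_contra hc
    push Not at hc
    exact h ((noHom_structure_iff G).1 hc)
  haveI := mono_of_ne_zero' H11Ample.isInvertible_structureModule hG hs
  haveI := VBPn.mono_twist_map (hT.inv (t : ℤ)) s
  haveI := finite_twist hG (t : ℤ) 0
  let φ : O((t : ℤ)) ⟶ CohB1.tensorMod G O((t : ℤ)) := (H10Coh.Tw.leftUnitIso _).inv ≫ VBPn.tw _ s
  haveI : Mono φ := mono_comp _ _
  rw [← finrank_h0_nat' (k := k) 2 t]
  exact LinearMap.finrank_le_finrank_of_injective (H29RR.hhlin_zero_injective (k := k) φ)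

theorem choose_two_succ (t : ℕ) : (t + 1 + 2).choose 2 = (t + 2).choose 2 + (t + 2) := by
  rw [show t + 1 + 2 = t + 2 + 1 by omega, Nat.choose_succ_succ' (t + 2) 1, Nat.choose_one_right]
  show t + 2 + (t + 2).choose 2 = _
  omega

/-- The sections of the twists below `δ`, when there is one. -/
theorem UType.h0_eq (h : UType G δ) (hG : FlatMod.IsFinLocFree G) (hs : ¬ Subsingleton (Coh.HH P2 G 0)) :
    ∀ t : ℕ, t < δ → hh 2 0 G (t : ℤ) = (t + 2).choose 2 := by
  intro t
  induction t with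
  | zero =>
    intro ht
    refine le_antisymm ?_ (choose_le_h0 hG hs 0)
    have h1 : hh 2 0 G ((0 : ℕ) : ℤ) ≤ _ + hh 2 0 G (((0 : ℕ) : ℤ) - 1) :=
      h0_le (n := 1) (Pi.single 0 1) 0 (by simp) hG ((0 : ℕ) : ℤ)
    rw [(h.line _ _ (by simp) _).1, hh_eq_zero (h.h0_neg hG (show ((0 : ℕ) : ℤ) - 1 < 0 by norm_num))] at h1
    rw [zero_add, Nat.choose_self]
    omega
  | succ t ih =>
    intro ht
    refine le_antisymm ?_ (choose_le_h0 hG hs (t + 1))
    have h1 : hh 2 0 G ((t + 1 : ℕ) : ℤ) ≤ _ + hh 2 0 G (((t + 1 : ℕ) : ℤ) - 1) :=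
      h0_le (n := 1) (Pi.single 0 1) 0 (by simp) hG ((t + 1 : ℕ) : ℤ)
    rw [(h.line _ _ (by simp) _).1, show ((t + 1 : ℕ) : ℤ) - 1 = (t : ℤ) by omega, ih (by omega)] at h1
    rw [choose_two_succ]
    omega

/-- With a section, multiplication is injective on first cohomology below `δ`. -/
theorem UType.mul_injective (h : UType G δ) (hG : FlatMod.IsFinLocFree G) (hs : ¬ Subsingleton (Coh.HH P2 G 0))
    {j : ℤ} (hj : j < δ) (a : Fin 3 → k) (p : Fin 3) (hp : a p ≠ 0) :
    Function.Injective (Canon.HHlin k (mulHyp (n := 1) a G j) 1) := by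
  rcases lt_or_ge j 0 with hj0 | hj0
  · exact (VBPn.hhlin_mul (n := 1) a p hp hG j).1 (h.h0_line_neg hG a p hp hj0)
  · obtain ⟨t, rfl⟩ := Int.eq_ofNat_of_zero_le hj0
    refine GM.mul_injective (n := 1) a p hp hG _ ?_
    show hh 2 0 G (t : ℤ) = _ + hh 2 0 G ((t : ℤ) - 1)
    rw [h.h0_eq hG hs t (by omega), (h.line a p hp _).1]
    cases t with
    | zero =>
      rw [hh_eq_zero (h.h0_neg hG (show ((0 : ℕ) : ℤ) - 1 < 0 by norm_num))]
      norm_num [Nat.choose_self]
      omega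
    | succ t =>
      rw [show ((t + 1 : ℕ) : ℤ) - 1 = (t : ℤ) by omega, h.h0_eq hG hs t (by omega), choose_two_succ]
      omega

/-- With a section, there is no first cohomology. -/
theorem UType.noMid [IsAlgClosed k] (h : UType G δ) (hG : FlatMod.IsFinLocFree G) (hδ : 0 < δ)
    (hs : ¬ Subsingleton (Coh.HH P2 G 0)) : VBPn.NoMid 2 G := by
  haveI : IsProper (P2 ↘ Spec (CommRingCat.of k)) := H27Weil.isProper_toSpec 2 k
  haveI := H29RR.isNoetherian_of_proper (k := k) (X := P2)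
  have hT := H10Coh.Stab.isTwistFamily_projSpace 2 k
  let a : Fin 3 → k := Pi.single 0 1
  let b : Fin 3 → k := Pi.single 1 1
  have ha : a 0 ≠ 0 := by simp [a]
  have hb : ∀ c : k, (b + c • a) 1 ≠ 0 := fun c => by simp [a, b]
  have e2 : ∀ j : ℤ, Nonempty (CohB1.tensorMod (CohB1.tensorMod G O(j - 1)) O(1) ≅ CohB1.tensorMod G O(j)) := fun j =>
    (hT.add (j - 1) 1).map fun t => H10Coh.Tw.assoc G O(j - 1) O(1) ≪≫
      PicGrp.tensorModIso (Iso.refl G) (t ≪≫ eqToIso (congrArg _ (sub_add_cancel j 1)))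
  have base : Subsingleton (Coh.HH P2 (CohB1.tensorMod G O((δ : ℤ) - 1)) 1) := by
    obtain ⟨e⟩ := e2 ((δ : ℤ) - 1)
    refine H10Coh.subsingleton_HH_of_iso e 1 ?_
    haveI := finite_twist hG ((δ : ℤ) - 1 - 1) 1
    refine VBPn.subsingleton_of_pencil (k := k) (X := P2) (mulHyp (n := 1) a G ((δ : ℤ) - 1))
      (mulHyp (n := 1) b G ((δ : ℤ) - 1))
      ⟨h.mul_injective hG hs (by omega) a 0 ha,
        (VBPn.hhlin_mul (n := 1) a 0 ha hG _).2 ((h.line a 0 ha _).2 (by omega))⟩ fun c => ?_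
    have := h.mul_injective hG hs (show (δ : ℤ) - 1 < δ by omega) (b + c • a) 1 (hb c)
    exact VBPn.mul_add_smul (n := 1) a b c (CohB1.tensorMod G O((δ : ℤ) - 1 - 1)) ▸ this
  have up : ∀ t : ℕ, Subsingleton (Coh.HH P2 (CohB1.tensorMod G O((δ : ℤ) - 1 + t)) 1) ∧
      Subsingleton (Coh.HH P2 (CohB1.tensorMod G O((δ : ℤ) - 1 - t)) 1) := by
    intro t
    induction t with
    | zero => simpa using base
    | succ t ih =>
      constructor
      · obtain ⟨e⟩ := e2 ((δ : ℤ) - 1 + (t + 1 : ℕ))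
        refine H10Coh.subsingleton_HH_of_iso e 1 ?_
        have hsur := (VBPn.hhlin_mul (n := 1) a 0 ha hG ((δ : ℤ) - 1 + (t + 1 : ℕ))).2
          ((h.line a 0 ha _).2 (by omega))
        have hx : (δ : ℤ) - 1 + ((t + 1 : ℕ) : ℤ) - 1 = (δ : ℤ) - 1 + t := by omega
        haveI := H10Coh.subsingleton_HH_of_iso
          (eqToIso (congrArg (fun z => CohB1.tensorMod G O(z)) hx.symm)) 1 ih.1
        exact hsur.subsingleton
      · obtain ⟨e⟩ := e2 ((δ : ℤ) - 1 - (t : ℤ))
        haveI := H10Coh.subsingleton_HH_of_iso e.symm 1 ih.2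
        refine H10Coh.subsingleton_HH_of_iso
          (eqToIso (congrArg (fun z => CohB1.tensorMod G O(z))
            (show (δ : ℤ) - 1 - t - 1 = (δ : ℤ) - 1 - ((t + 1 : ℕ) : ℤ) by omega))) 1 ?_
        exact (h.mul_injective hG hs (show (δ : ℤ) - 1 - (t : ℤ) < δ by omega) a 0 ha).subsingleton
  intro q d hq hq2
  obtain rfl : q = 1 := by omega
  rcases le_or_gt ((δ : ℤ) - 1) d with hd | hd
  · have := (up (d - ((δ : ℤ) - 1)).toNat).1
    rwa [show (δ : ℤ) - 1 + (((d - ((δ : ℤ) - 1)).toNat : ℕ) : ℤ) = d by omega] at this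
  · have := (up ((δ : ℤ) - 1 - d).toNat).2
    rwa [show (δ : ℤ) - 1 - ((((δ : ℤ) - 1 - d).toNat : ℕ) : ℤ) = d by omega] at this

end Groth.Agent.H02CA.GM
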