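import Groth.Agent.H02CA.GM.EulerShape
import Groth.Agent.H02CA.GM.Main
import Groth.Agent.H02CA.VBPn.Trivial
import Groth.Agent.H17.FLI.ProjTop
import Groth.Agent.H28RR.Omega
import Groth.Agent.H02CA.VBPn.NullCorr
import Groth.Agent.H22Alg.KExists

/-!
Van de Ven's theorem on uniform rank two bundles on the plane.
-/

set_option autoImplicit false
set_option linter.style.haveILetI false
set_option backward.isDefEq.respectTransparency false
set_option maxHeartbeats 1600000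
universe u

open CategoryTheory CategoryTheory.Limits AlgebraicGeometry TopologicalSpace Opposite
open Groth.Agent

namespace Groth.Agent.H02CA.GM

attribute [local instance 10000] H10Coh.hasSheafifyAb H10Coh.hasWeakSheafifyAb H10Coh.hasExtAb H10Coh.enoughInjAb
attribute [local instance] H29RR.PnPic.overSpec

open H22Alg

variable {k : Type u} [Field k]

local notation "P2" => CohB1.ProjSpace 2 k
local notation "P1" => CohB1.ProjSpace 1 k
local notation "O(" d ")" => Twist.twistProjSpace 2 k d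
local notation "O'(" d ")" => Twist.twistProjSpace 1 k d

/-- All lines have the type `b`. -/
def Uniform (E : (P2).Modules) (b : Fin 2 → ℤ) : Prop :=
  ∀ (i : P1 ⟶ P2) [IsClosedImmersion i], i ≫ CohB1.ProjSpace.toSpec 2 k = CohB1.ProjSpace.toSpec 1 k →
    Nonempty ((Scheme.Modules.pullback i).obj O(1) ≅ O'(1)) →
    Nonempty ((Scheme.Modules.pullback i).obj E ≅ ∐ fun j : Fin 2 => O'(b j))

theorem uniform_utype {G : (P2).Modules} {δ : ℕ} (h : Uniform G ![0, -(δ : ℤ)]) : UType G δ := fun a p hp => by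
  obtain ⟨-, -, -, ⟨eL⟩⟩ := VBPn.exists_cutting_section (n := 1) a p hp
  haveI : IsClosedImmersion (HyperplanePn.emb (n := 1) a p) := HyperplanePn.isClosedImmersion_emb a p
  exact h (HyperplanePn.emb (n := 1) a p) (MumfordStep.emb_toSpec a p) ⟨eL⟩

theorem uniform_swap {E : (P2).Modules} {b : Fin 2 → ℤ} (h : Uniform E b) : Uniform E ![b 1, b 0] :=
  fun i _ hi hO => (h i hi hO).map fun e => e ≪≫ Sigma.whiskerEquiv (f := fun j => O'(b j))
    (g := fun j => O'(![b 1, b 0] j)) (Equiv.swap 0 1) fun j =>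
      eqToIso (congrArg (fun d : ℤ => O'(d)) (by fin_cases j <;> simp))

theorem uniform_twist {E : (P2).Modules} {b : Fin 2 → ℤ} (h : Uniform E b) (c : ℤ) {b' : Fin 2 → ℤ}
    (hb : ∀ j, b j + c = b' j) : Uniform (CohB1.tensorMod E O(c)) b' := fun i _ hi hO => by
  obtain ⟨e⟩ := h i hi hO
  obtain ⟨eO⟩ := hO
  obtain ⟨τ⟩ := MumfordStep.fam_unique ((H10Coh.Stab.isTwistFamily_projSpace 2 k).pullback i)
    (H10Coh.Stab.isTwistFamily_projSpace 1 k) eO c
  obtain ⟨w⟩ := H29RR.PnPic.nonempty_tensor_sum (n := 1) (k := k) b c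
  exact ⟨((H16Derived.KFlat.Stalk.pullTensorLIso i O(c)).app E) ≪≫ PicGrp.tensorModIso e τ ≪≫ w ≪≫
    Sigma.mapIso fun j => eqToIso (congrArg (fun d : ℤ => O'(d)) (hb j))⟩

theorem exists_line : ∃ i : P1 ⟶ P2, IsClosedImmersion i ∧
    i ≫ CohB1.ProjSpace.toSpec 2 k = CohB1.ProjSpace.toSpec 1 k ∧
    Nonempty ((Scheme.Modules.pullback i).obj O(1) ≅ O'(1)) := by
  let a : Fin 3 → k := Pi.single 0 1
  have ha : a 0 ≠ 0 := by simp [a]
  obtain ⟨-, -, -, ⟨eL⟩⟩ := VBPn.exists_cutting_section (n := 1) a 0 ha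
  exact ⟨HyperplanePn.emb (n := 1) a 0, HyperplanePn.isClosedImmersion_emb a 0, MumfordStep.emb_toSpec a 0, ⟨eL⟩⟩

/-- The determinant of a normalised uniform bundle. -/
theorem exists_det {G : (P2).Modules} (hG : FlatMod.IsFinLocFreeOfRank 2 G) {δ : ℕ}
    (h : Uniform G ![0, -(δ : ℤ)]) :
    ∃ L, ExtPow.IsExtPow 2 G L ∧ Nonempty (L ≅ O(-(δ : ℤ))) := by
  haveI := CMHyper.noetherian k 2
  haveI := CMHyper.noetherian k 1
  haveI : IsNoetherian (Proj (H10Coh.Pn.Gr 2 k)) := CMHyper.noetherian k 2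
  haveI : IsIntegral (Proj (H10Coh.Pn.Gr 2 k)) := LeadPic.PnRel.isIntegral_projSpace (n := 2) k
  haveI : IsIntegral P2 := LeadPic.PnRel.isIntegral_projSpace (n := 2) k
  have hGf : FlatMod.IsFinLocFree G := H22Alg.KPullLam.finLocFree_of_rank hG
  have hGq := H8Props.FinLocFree.isQCoh_of_isFinLocFree _ hGf
  obtain ⟨L, hL⟩ := H22Alg.ExtPowSheaf.exists_isExtPow 2 hGq
  have hL1 : FlatMod.IsFinLocFreeOfRank 1 L :=
    H3Cyc.Filt.ofRank_of_rk (H22Alg.ExtPowHom.finLocFree_of_isExtPow hGf hL) fun x => by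
      rw [H22Alg.KExists.rk_extPow hGf hL x, H22Alg.KExists.rk_of_rank hG, Nat.choose_self]
  obtain ⟨c, ⟨i₀⟩⟩ := LeadPic.Pn.exists_iso_twist 2 k (H22Alg.KExists.isInvertible_of_rank_one hL1)
  let eL : L ≅ O(c) := i₀ ≪≫ eqToIso (H17.PnExt.od_eq 2 k c).symm
  obtain ⟨i, hi, hi', ⟨eO⟩⟩ := exists_line (k := k)
  haveI := hi
  obtain ⟨τ⟩ := MumfordStep.fam_unique ((H10Coh.Stab.isTwistFamily_projSpace 2 k).pullback i)
    (H10Coh.Stab.isTwistFamily_projSpace 1 k) eO c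
  have hGi : FlatMod.IsFinLocFreeOfRank 2 ((Scheme.Modules.pullback i).obj G) := H26Gr.isFinLocFreeOfRank_pullback i hG
  have hdet : ∃ M, ExtPow.IsExtPow 2 ((Scheme.Modules.pullback i).obj G) M ∧ Nonempty (M ≅ O'(c)) :=
    ⟨_, H22Alg.ExtPowHom.isExtPow_pullback i hGq hL, ⟨(Scheme.Modules.pullback i).mapIso eL ≪≫ τ⟩⟩
  obtain ⟨e⟩ := h i hi' ⟨eO⟩
  let e' : (Scheme.Modules.pullback i).obj G ≅ H10Coh.Pn.Od 1 k 0 ⊞ H10Coh.Pn.Od 1 k (-(δ : ℤ)) :=
    e ≪≫ coprodTwoIso _ ≪≫ biprod.mapIso (eqToIso ((congrArg (fun d : ℤ => O'(d)) (by simp)).trans (H17.PnExt.od_eq 1 k 0)))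
      (eqToIso ((congrArg (fun d : ℤ => O'(d)) (by simp)).trans (H17.PnExt.od_eq 1 k _)))
  have key : ∀ j : ℤ, (j + c < 0 ∧ j + c < -(δ : ℤ)) ↔ (0 < -j ∧ -(δ : ℤ) < -j) := fun j => by
    rw [← noHom_od_od (n := 1) (k := k) one_ne_zero 0, ← noHom_od_od (n := 1) (k := k) one_ne_zero (-(δ : ℤ)) (j + c),
      ← noHom_biprod_left, ← noHom_congr e' (Iso.refl _), noHom_dual hGi hdet j, ← noHom_source_iff,
      noHom_congr (Iso.refl _) e', noHom_biprod_right, noHom_od_od one_ne_zero, noHom_od_od one_ne_zero]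
  have h1 := key (-1)
  have h2 := key 0
  obtain rfl : c = -(δ : ℤ) := by omega
  exact ⟨L, hL, ⟨eL⟩⟩

theorem subsingleton_h0_twist_zero {G : (P2).Modules} :
    Subsingleton (Coh.HH P2 (CohB1.tensorMod G O(0)) 0) ↔ Subsingleton (Coh.HH P2 G 0) := by
  obtain ⟨z⟩ := (H10Coh.Stab.isTwistFamily_projSpace 2 k).zero
  let e : CohB1.tensorMod G O(0) ≅ G := PicGrp.tensorModIso (Iso.refl G) z ≪≫ SecTwist.unitorR G
  exact ⟨fun h => H10Coh.subsingleton_HH_of_iso e 0 h, fun h => H10Coh.subsingleton_HH_of_iso e.symm 0 h⟩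

theorem noHom_iff_subsingleton {G : (P2).Modules} (hG : FlatMod.IsFinLocFreeOfRank 2 G) {δ : ℕ}
    (h : Uniform G ![0, -(δ : ℤ)]) :
    NoHom G (H10Coh.Pn.Od 2 k (-(δ : ℤ))) ↔ Subsingleton (Coh.HH P2 G 0) := by
  have h1 := noHom_dual hG (exists_det hG h) 0
  rw [zero_add] at h1
  refine h1.trans (Iff.trans ?_ subsingleton_h0_twist_zero)
  let e : CohB1.tensorMod G (H10Coh.Pn.Od 2 k 0) ≅ CohB1.tensorMod G O(0) :=
    PicGrp.tensorModIso (Iso.refl G) (eqToIso (H17.PnExt.od_eq 2 k 0).symm)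
  exact ⟨fun h => H10Coh.subsingleton_HH_of_iso e 0 h, fun h => H10Coh.subsingleton_HH_of_iso e.symm 0 h⟩

/-- A normalised uniform bundle with `δ ≥ 2` has a section. -/
theorem not_subsingleton_of_two_le [CharZero k] {G : (P2).Modules} (hG : FlatMod.IsFinLocFreeOfRank 2 G) {δ : ℕ}
    (h : Uniform G ![0, -(δ : ℤ)]) (hδ : 2 ≤ δ) : ¬ Subsingleton (Coh.HH P2 G 0) := fun hs => by
  obtain ⟨i, hi, hi', ⟨eO⟩, -, -, hno⟩ := exists_linear (r := 1) (q := 1) one_pos G hG (-(δ : ℤ)) (-(δ : ℤ))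
    (exists_det hG h) (Or.inl (by omega)) ((noHom_iff_subsingleton hG h).2 hs)
  haveI := hi
  obtain ⟨e⟩ := h i hi' ⟨eO⟩
  let e' : (Scheme.Modules.pullback i).obj G ≅ H10Coh.Pn.Od 1 k 0 ⊞ H10Coh.Pn.Od 1 k (-(δ : ℤ)) :=
    e ≪≫ coprodTwoIso _ ≪≫ biprod.mapIso (eqToIso ((congrArg (fun d : ℤ => O'(d)) (by simp)).trans (H17.PnExt.od_eq 1 k 0)))
      (eqToIso ((congrArg (fun d : ℤ => O'(d)) (by simp)).trans (H17.PnExt.od_eq 1 k _)))
  exact lt_irrefl _ ((noHom_od_od (n := 1) (k := k) one_ne_zero _ _).1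
    ((noHom_biprod_left _ _ _).1 ((noHom_congr e' (Iso.refl _)).1 hno)).2)

/-- A normalised uniform bundle with a section, or trivial on lines, splits. -/
theorem split_of_section [IsAlgClosed k] {G : (P2).Modules} (hG : FlatMod.IsFinLocFreeOfRank 2 G) {δ : ℕ}
    (h : Uniform G ![0, -(δ : ℤ)]) (hs : δ = 0 ∨ ¬ Subsingleton (Coh.HH P2 G 0)) :
    ∃ b : Fin 2 → ℤ, Nonempty (G ≅ ∐ fun j => O(b j)) := by
  rcases Nat.eq_zero_or_pos δ with rfl | hδ
  · haveI := CMHyper.noetherian k 2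
    haveI : IsIntegral P2 := LeadPic.PnRel.isIntegral_projSpace (n := 2) k
    haveI : CompactSpace P2 := H11Ample.compactSpace_projSpace 2 k
    obtain ⟨x, -, hx⟩ := IsClosed.exists_closed_singleton (X := P2) isClosed_univ Set.univ_nonempty
    obtain ⟨z'⟩ := (H10Coh.Stab.isTwistFamily_projSpace 1 k).zero
    obtain ⟨e⟩ := VBPn.free_of_lines 2 2 G hG x hx fun i _ hi hO _ =>
      (h i hi hO).map fun e => e ≪≫ Sigma.mapIso fun j =>
        eqToIso (congrArg (fun d : ℤ => O'(d)) (by fin_cases j <;> simp)) ≪≫ z'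
    obtain ⟨z⟩ := (H10Coh.Stab.isTwistFamily_projSpace 2 k).zero
    exact ⟨fun _ => 0, ⟨e ≪≫ Sigma.mapIso fun _ => z.symm⟩⟩
  · exact VBPn.exists_split one_le_two hG ((uniform_utype h).noMid (H22Alg.KPullLam.finLocFree_of_rank hG) hδ
      (hs.resolve_left (by omega)))

/-- A normalised uniform bundle of type `(0, -1)` without sections. -/
theorem nonempty_iso_coker' [IsAlgClosed k] {G : (P2).Modules} (hG : FlatMod.IsFinLocFreeOfRank 2 G)
    (h : Uniform G ![0, -((1 : ℕ) : ℤ)]) (hs : Subsingleton (Coh.HH P2 G 0)) :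
    Nonempty (CohB1.tensorMod G O(1) ≅ cokernel (coordCol k)) := by
  refine nonempty_iso_coker_of_utype hG (uniform_utype h) (hh_eq_zero (subsingleton_h0_twist_zero.2 hs)) ?_
  refine (noHom_congr (PicGrp.tensorModIso (Iso.refl G) (eqToIso (H17.PnExt.od_eq 2 k 1))) (Iso.refl _)).2 ?_
  exact (noHom_twist_target G (show (0 : ℤ) = 1 + -((1 : ℕ) : ℤ) by norm_num)).1 ((noHom_iff_subsingleton hG h).2 hs)

end Groth.Agent.H02CA.GM
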