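import Groth.Agent.H02CA.GM.Gen
import Groth.Agent.H02CA.VBPn.Pairing

/-!
The wedges of generating sections of a rank two module, as forms.
-/

set_option autoImplicit false
set_option backward.isDefEq.respectTransparency false
set_option linter.style.haveILetI false
set_option maxHeartbeats 1600000

universe u

open CategoryTheory CategoryTheory.Limits AlgebraicGeometry TopologicalSpace Opposite exteriorPower
open Groth.Agent Groth.Agent.H11Tilde
open H26Base.BasisLite
open CohB1 (polyGrading)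

noncomputable section

namespace Groth.Agent.H02CA.GM

section wedge

variable {X : Scheme.{u}} {E L : X.Modules}

/-- Wedging with a global section, for given determinant data. -/
theorem exists_wedge_of (φ : ∀ U : X.affineOpens, Γ(L, U.1) ≃ₗ[Γ(X, U.1)] ↥(⋀[Γ(X, U.1)]^2 Γ(E, U.1)))
    (hφ : ∀ (U V : X.affineOpens) (h : V.1 ≤ U.1) (e : Fin 2 → Γ(E, U.1)),
      L.presheaf.map (homOfLE h).op ((φ U).symm (ιMulti _ 2 e)) =
        (φ V).symm (ιMulti _ 2 fun j => E.presheaf.map (homOfLE h).op (e j))) (s : Γ(E, ⊤)) :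
    ∃ w : E ⟶ L, ∀ (U : X.affineOpens) (v : Γ(E, U.1)), w.app U.1 v =
      (φ U).symm (ιMulti Γ(X, U.1) 2 ![E.presheaf.map (homOfLE (le_top : U.1 ≤ ⊤)).op s, v]) := by
  let f : ∀ U : X.affineOpens, Γ(E, U.1) →ₗ[Γ(X, U.1)] Γ(L, U.1) := fun U => (φ U).symm.toLinearMap ∘ₗ
    (ιMulti Γ(X, U.1) 2).toMultilinearMap.toLinearMap ![E.presheaf.map (homOfLE (le_top : U.1 ≤ ⊤)).op s, 0] 1
  have hf : ∀ (U : X.affineOpens) (v : Γ(E, U.1)), f U v = (φ U).symm
      (ιMulti Γ(X, U.1) 2 ![E.presheaf.map (homOfLE (le_top : U.1 ≤ ⊤)).op s, v]) := fun U v => by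
    refine congrArg (fun m => (φ U).symm (ιMulti Γ(X, U.1) 2 m)) ?_
    ext i; fin_cases i <;> simp [Function.update]
  obtain ⟨w, hw⟩ := H17.AffHom.exists_hom f (fun U V h x => by
    rw [hf, hf, hφ U V h]
    refine congrArg (fun m => (φ V).symm (ιMulti Γ(X, V.1) 2 m)) ?_
    ext i
    fin_cases i
    · exact (H10Coh.mres_mres E (le_top : U.1 ≤ ⊤) h s).symm
    · rfl)
  exact ⟨w, fun U v => by rw [hw, hf]⟩

end wedge

/-- Spanning vectors give spanning wedges. -/
theorem mem_of_span {R M : Type*} [CommRing R] [AddCommGroup M] [Module R M] {N : Type*} (g : N → M)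
    (hg : Submodule.span R (Set.range g) = ⊤) (Q : Submodule R ↥(⋀[R]^2 M))
    (hQ : ∀ a b, ιMulti R 2 ![g a, g b] ∈ Q) (z : ↥(⋀[R]^2 M)) : z ∈ Q := by
  let A := ιMulti R 2 (M := M)
  have e0 : ∀ x v : M, ![x, v] = Function.update ![(0 : M), v] 0 x := fun x v => by
    ext i; fin_cases i <;> simp [Function.update]
  have e1 : ∀ x v : M, ![v, x] = Function.update ![v, (0 : M)] 1 x := fun x v => by
    ext i; fin_cases i <;> simp [Function.update]
  have h1 : ∀ a y, A ![g a, y] ∈ Q := fun a y => by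
    have hy : y ∈ Submodule.span R (Set.range g) := hg.symm ▸ trivial
    induction hy using Submodule.span_induction with
    | mem w hw => obtain ⟨b, rfl⟩ := hw; exact hQ a b
    | zero => rw [A.map_coord_zero 1 rfl]; exact zero_mem _
    | add v w _ _ hv hw => rw [e1 (v + w), AlternatingMap.map_update_add, ← e1, ← e1]; exact add_mem hv hw
    | smul c v _ hv => rw [e1 (c • v), AlternatingMap.map_update_smul, ← e1]; exact Q.smul_mem c hv
  have h2 : ∀ x y, A ![x, y] ∈ Q := fun x y => by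
    have hx : x ∈ Submodule.span R (Set.range g) := hg.symm ▸ trivial
    induction hx using Submodule.span_induction with
    | mem w hw => obtain ⟨a, rfl⟩ := hw; exact h1 a y
    | zero => rw [A.map_coord_zero 0 rfl]; exact zero_mem _
    | add v w _ _ hv hw => rw [e0 (v + w), AlternatingMap.map_update_add, ← e0, ← e0]; exact add_mem hv hw
    | smul c v _ hv => rw [e0 (c • v), AlternatingMap.map_update_smul, ← e0]; exact Q.smul_mem c hv
  have hz : z ∈ Submodule.span R (Set.range A) := (exteriorPower.ιMulti_span R 2 M).symm ▸ trivial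
  induction hz using Submodule.span_induction with
  | mem w hw =>
    obtain ⟨m, rfl⟩ := hw
    rw [show m = ![m 0, m 1] from funext fun i => by fin_cases i <;> rfl]
    exact h2 _ _
  | zero => exact zero_mem _
  | add v w _ _ hv hw => exact add_mem hv hw
  | smul c v _ hv => exact Q.smul_mem c hv

section abstract

variable {X : Scheme.{u}} {F M L : X.Modules} {N : Type u} [Fintype N] {s : N → Γ(F, ⊤)}
  {φ : ∀ U : X.affineOpens, Γ(M, U.1) ≃ₗ[Γ(X, U.1)] ↥(⋀[Γ(X, U.1)]^2 Γ(F, U.1))} {w : N → (F ⟶ M)}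
  (hw : ∀ (a : N) (U : X.affineOpens) (v : Γ(F, U.1)), (w a).app U.1 v =
      (φ U).symm (ιMulti Γ(X, U.1) 2 ![rs s a U.1, v]))
  (μ : M ≅ L) {σ : N → N → Γ(L, ⊤)} (hσ : ∀ a b, (w a ≫ μ.hom).app ⊤ (s b) = σ a b)
  {U : X.Opens} {g : Γ(L, U)} {c : N → N → Γ(X, U)}
  (hc : ∀ a b, L.presheaf.map (homOfLE (le_top : U ≤ ⊤)).op (σ a b) = c a b • g)

include hw hσ hc in
theorem wedge_value (hU : IsAffineOpen U) {V : X.Opens} (hV : IsAffineOpen V) (h : V ≤ U) (a b : N) :
    μ.hom.app V ((φ ⟨V, hV⟩).symm (ιMulti Γ(X, V) 2 ![rs s a V, rs s b V])) =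
      X.presheaf.map (homOfLE h).op (c a b) • L.presheaf.map (homOfLE h).op g := by
  rw [← Scheme.Modules.map_smul, ← hc a b, H10Coh.mres_mres, ← hσ a b, ← app_rs (w a ≫ μ.hom) b V,
    ← hw a ⟨V, hV⟩ (rs s b V)]
  rfl

include hw hσ hc in
theorem wedge_value_self (hU : IsAffineOpen U) (a b : N) :
    μ.hom.app U ((φ ⟨U, hU⟩).symm (ιMulti Γ(X, U) 2 ![rs s a U, rs s b U])) = c a b • g := by
  rw [← hc a b, ← hσ a b, ← app_rs (w a ≫ μ.hom) b U, ← hw a ⟨U, hU⟩ (rs s b U)]
  rfl

include hw hσ hc in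
theorem coef_alt (hU : IsAffineOpen U) (inj : ∀ x y : Γ(X, U), x • g = y • g → x = y) (a b : N) :
    c b a = -c a b := by
  refine inj _ _ ?_
  rw [neg_smul, ← wedge_value_self hw μ hσ hc hU, ← wedge_value_self hw μ hσ hc hU, ← map_neg, ← map_neg]
  refine congrArg _ (congrArg _ ?_)
  have h := (ιMulti Γ(X, U) 2 (M := Γ(F, U))).map_swap ![rs s a U, rs s b U] (i := 0) (j := 1) (by decide)
  rwa [show ![rs s a U, rs s b U] ∘ Equiv.swap (0 : Fin 2) 1 = ![rs s b U, rs s a U] from
    funext fun i => by fin_cases i <;> simp] at h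

include hw hσ hc in
theorem coef_span (hU : IsAffineOpen U) (hs : Spans s) (inj : ∀ x y : Γ(X, U), x • g = y • g → x = y) :
    ∃ u : N → N → Γ(X, U), ∑ a, ∑ b, u a b * c a b = 1 := by
  classical
  let Q : Submodule Γ(X, U) Γ(X, U) := Submodule.span _ (Set.range fun ab : N × N => c ab.1 ab.2)
  obtain ⟨x, hx⟩ : ∃ x, μ.hom.app U x = g :=
    ⟨μ.inv.app U g, congr($(congrArg (fun f => Scheme.Modules.Hom.app f U) μ.inv_hom_id) g)⟩
  obtain ⟨z, rfl⟩ := (φ ⟨U, hU⟩).symm.surjective x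
  let ev : ↥(⋀[Γ(X, U)]^2 Γ(F, U)) →ₗ[Γ(X, U)] Γ(L, U) :=
    { toFun := fun z => μ.hom.app U ((φ ⟨U, hU⟩).symm z)
      map_add' := fun a b => by rw [map_add, map_add]
      map_smul' := fun r a => by rw [map_smul, Scheme.Modules.Hom.app_smul]; rfl }
  obtain ⟨v, hv, hve⟩ := mem_of_span (fun e => rs s e U) (hs U hU)
    ((Q.map (LinearMap.toSpanSingleton Γ(X, U) Γ(L, U) g)).comap ev)
    (fun a b => ⟨_, Submodule.subset_span ⟨(a, b), rfl⟩, (wedge_value_self hw μ hσ hc hU a b).symm⟩) z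
  have hv1 : v = 1 := inj _ _ ((hve.trans hx).trans (one_smul _ _).symm)
  obtain ⟨u, hu⟩ := (Submodule.mem_span_range_iff_exists_fun _).1 (hv1 ▸ hv)
  exact ⟨fun a b => u (a, b), by rw [← hu, Fintype.sum_prod_type]; rfl⟩

include hw hσ hc in
theorem coef_plucker (hU : IsAffineOpen U) (hF : FlatMod.IsFinLocFreeOfRank 2 F)
    (bij : ∀ (V : X.Opens) (h : V ≤ U),
      Function.Bijective fun r : Γ(X, V) => r • L.presheaf.map (homOfLE h).op g) (a b e : N) :
    c a b • rs s e U + c b e • rs s a U + c e a • rs s b U = 0 := by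
  refine H29Ref.sec_ext F fun x hx => ?_
  obtain ⟨W, hxW, ⟨eW⟩⟩ := hF x
  obtain ⟨m, hm⟩ := exists_isBasisOn_of_chart F eW
  obtain ⟨V, hV, hxV, hVW⟩ := exists_isAffineOpen_mem_and_subset (x := x) (U := W ⊓ U) ⟨hxW, hx⟩
  have hVU : V ≤ U := fun y hy => (hVW hy).2
  have hVW' : V ≤ W := fun y hy => (hVW hy).1
  choose co hco using fun e => (hm V hVW').2 (rs s e V)
  simp only [VBPn.comb_two] at hco
  let b0 := F.presheaf.map (homOfLE hVW').op (m 0)
  let b1 := F.presheaf.map (homOfLE hVW').op (m 1)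
  obtain ⟨t, ht⟩ := (bij V hVU).2 (μ.hom.app V ((φ ⟨V, hV⟩).symm (ιMulti Γ(X, V) 2 ![b0, b1])))
  have hdet : ∀ a b, X.presheaf.map (homOfLE hVU).op (c a b) = (co a 0 * co b 1 - co a 1 * co b 0) * t := fun a b => by
    have h := wedge_value hw μ hσ hc hU hV hVU a b
    rw [← hco a, ← hco b, VBPn.pairing_vec, map_smul, Scheme.Modules.Hom.app_smul] at h
    refine (bij V hVU).1 (h.symm.trans ?_)
    rw [← ht]
    exact (mul_smul _ _ _).symm
  rw [map_zero, ← TopCat.Presheaf.germ_res_apply F.presheaf (homOfLE hVU) x hxV]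
  refine (congrArg _ ?_).trans (map_zero _)
  rw [map_add, map_add, Scheme.Modules.map_smul, Scheme.Modules.map_smul, Scheme.Modules.map_smul, rs_res, rs_res,
    rs_res, hdet, hdet, hdet, ← hco a, ← hco b, ← hco e]
  module

include hσ hc in
theorem coef_rel {V : X.Opens} (d : N → Γ(X, V)) (hd : ∑ e, d e • rs s e V = 0) {A : X.Opens} (hAV : A ≤ V)
    (hA : A ≤ U) (bij : Function.Bijective fun r : Γ(X, A) => r • L.presheaf.map (homOfLE hA).op g) (j : N) :
    ∑ e, X.presheaf.map (homOfLE hAV).op (d e) * X.presheaf.map (homOfLE hA).op (c j e) = 0 := by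
  have h0 : ∑ e, d e • rs (σ j) e V = 0 := by
    have := congrArg ((w j ≫ μ.hom).app V) hd
    rw [map_zero, map_sum] at this
    refine Eq.trans (Finset.sum_congr rfl fun e _ => ?_) this
    rw [Scheme.Modules.Hom.app_smul, app_rs, hσ j e]
  have h1 := congrArg (L.presheaf.map (homOfLE hAV).op) h0
  rw [map_zero, map_sum] at h1
  refine bij.1 (a₂ := 0) ?_
  refine Eq.trans ?_ (zero_smul _ _).symm
  refine Eq.trans ?_ h1
  dsimp only
  rw [Finset.sum_smul]
  exact Finset.sum_congr rfl fun e _ => by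
    rw [Scheme.Modules.map_smul, rs_res, mul_smul, ← Scheme.Modules.map_smul, ← hc j e, H10Coh.mres_mres]

end abstract

variable {k : Type u} [Field k] {n : ℕ}

/-- The ratio of a form restricted to an open inside a chart. -/
abbrev rR {D : ℕ} {a : MvPolynomial (Fin (n + 1)) k} (ha : a ∈ polyGrading n k D) (i : Fin (n + 1))
    {U : (Proj (polyGrading n k)).Opens} (hU : U ≤ Dp i) : Γ(Proj (polyGrading n k), U) :=
  (Proj (polyGrading n k)).presheaf.map (homOfLE hU).op (ratio (polyGrading n k) (Xh i) ha)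

theorem rs_globalSec {D : ℕ} {a : MvPolynomial (Fin (n + 1)) k} (ha : a ∈ polyGrading n k D) (i : Fin (n + 1))
    {U : (Proj (polyGrading n k)).Opens} (hU : U ≤ Dp i) :
    (O n k D).presheaf.map (homOfLE (le_top : U ≤ ⊤)).op (globalSec (polyGrading n k) ha) =
      rR ha i hU • (O n k D).presheaf.map (homOfLE hU).op (gd D i) := by
  refine ((H10Coh.mres_mres (O n k D) (le_top : Dp i ≤ ⊤) hU _).symm.trans
    (congrArg _ (globalSec_res ha i))).trans ?_
  exact Scheme.Modules.map_smul _ _ _ _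

variable {F M : (Proj (polyGrading n k)).Modules} {N : Type u} [Fintype N] {s : N → Γ(F, ⊤)} {D : ℕ}

/-- The forms given by the wedges of generating sections. -/
theorem exists_wedgeForms (hF : FlatMod.IsFinLocFreeOfRank 2 F) (hs : Spans s) (hM : ExtPow.IsExtPow 2 F M)
    (μ : M ≅ O n k D) :
    ∃ (Pw : N → N → MvPolynomial (Fin (n + 1)) k) (hPw : ∀ a b, Pw a b ∈ polyGrading n k D),
      (∀ i a b, ratio (polyGrading n k) (Xh i) (hPw b a) = -ratio (polyGrading n k) (Xh i) (hPw a b)) ∧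
      (∀ i, ∃ u : N → N → Γ(Proj (polyGrading n k), Dp i),
        ∑ a, ∑ b, u a b * ratio (polyGrading n k) (Xh i) (hPw a b) = 1) ∧
      (∀ i a b e, ratio (polyGrading n k) (Xh i) (hPw a b) • rs s e (Dp i) +
        ratio (polyGrading n k) (Xh i) (hPw b e) • rs s a (Dp i) +
        ratio (polyGrading n k) (Xh i) (hPw e a) • rs s b (Dp i) = 0) ∧
      ∀ (V : (Proj (polyGrading n k)).Opens) (c : N → Γ(Proj (polyGrading n k), V)),
        ∑ e, c e • rs s e V = 0 → ∀ (i : Fin (n + 1)) (A : (Proj (polyGrading n k)).Opens) (hAV : A ≤ V)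
          (hA : A ≤ Dp i) (j : N),
          ∑ e, (Proj (polyGrading n k)).presheaf.map (homOfLE hAV).op (c e) * rR (hPw j e) i hA = 0 := by
  obtain ⟨φ₀, hφ₀⟩ := hM
  choose w hw using fun a => exists_wedge_of (fun U => φ₀ U) hφ₀ (s a)
  choose Pw hPw hform using fun a b => exists_form ((w a ≫ μ.hom).app ⊤ (s b))
  have hc : ∀ i a b, (O n k D).presheaf.map (homOfLE (le_top : Dp i ≤ ⊤)).op
      (globalSec (polyGrading n k) (hPw a b)) = ratio (polyGrading n k) (Xh i) (hPw a b) • gd D i :=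
    fun i a b => globalSec_res (hPw a b) i
  have aff : ∀ i : Fin (n + 1), IsAffineOpen (Dp (k := k) i) := fun i =>
    Proj.isAffineOpen_basicOpen _ _ (Xh i) Nat.one_pos
  have inj : ∀ (i : Fin (n + 1)) (x y : Γ(Proj (polyGrading n k), Dp i)), x • gd D i = y • gd D i → x = y :=
    fun i x y h => (bijective_gd D i le_rfl).1 (a₁ := x) (a₂ := y) (by simpa only [H10Coh.mres_self] using h)
  exact ⟨Pw, hPw, fun i a b => coef_alt hw μ hform (hc i) (aff i) (inj i) a b,
    fun i => coef_span hw μ hform (hc i) (aff i) hs (inj i),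
    fun i a b e => coef_plucker hw μ hform (hc i) (aff i) hF (fun V h => bijective_gd D i h) a b e,
    fun V c h i A hAV hA j => coef_rel μ hform (hc i) c h hAV hA (bijective_gd D i hA) j⟩

end Groth.Agent.H02CA.GM
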